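import Cfsg.Agent.MC8.SS

/-! # Local facts in `2.A_n`, `8 ≤ n ≤ 10` -/

set_option autoImplicit false
set_option linter.unusedVariables false
set_option linter.unusedSimpArgs false
set_option maxRecDepth 100000

namespace Cfsg.Agent.MC8
open Subgroup Equiv Cfsg.Agent.Spor Cfsg.Agent.Spor.LyUC Cfsg.Agent.H8Ly

/-- evaluation of a word in the basic letters -/
noncomputable abbrev eK (w : List ℕ) : K := ev (atm 12 (κ false)) w

theorem memW {n : ℕ} {w : List ℕ} (h : ∀ v : Fin 11, n ≤ v.1 → ev (atm 12 pB) w v = v) : eK w ∈ SS n :=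
  fun v hv => by rw [πevB]; exact h v hv

theorem i_S : ki ∈ SS 8 := fun v => by rw [π_i]; revert v; decide +kernel
theorem u_S : ku ∈ SS 8 := fun v => by rw [π_u]; revert v; decide +kernel
theorem a_S : ka ∈ SS 8 := fun v => by rw [π_a]; revert v; decide +kernel
theorem π_b : π kb = pB 10 := π_κ0 10 (by omega)
theorem π_b2 : π kb2 = pB 11 := π_κ0 11 (by omega)
theorem π_y : π ky = pB 5 := π_κ0 5 (by omega)
theorem b_S : kb ∈ SS 8 := fun v => by rw [π_b]; revert v; decide +kernel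
theorem y_S : ky ∈ SS 8 := fun v => by rw [π_y]; revert v; decide +kernel
theorem a2_S : ka2 ∈ SS 8 := k_a2d ▸ mul_mem (mul_mem (inv_mem y_S) a_S) y_S
theorem b2_S : kb2 ∈ SS 8 := k_b2d ▸ mul_mem (mul_mem (inv_mem y_S) b_S) y_S

theorem S8_x {z : K} (h : z ∈ SS 8) : z * kx = kx * z := by
  rw [← mul_inv_eq_iff_eq_mul]
  refine π_eq3 ?_ (by rw [conj_pow, k_x3]; simp) k_x3
  rw [map_mul, map_mul, map_inv, π_x]
  have e : π z * c3 8 * (π z)⁻¹ = swap (π z 10) (π z 9) * swap (π z 10) (π z 8) := Cov.conj_c3 _ 10 9 8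
  rw [e, h 10 (by decide), h 9 (by decide), h 8 (by decide)]
  rfl

theorem S8_of_x {z : K} (h : z ∈ SS 10) (hx : z * kx = kx * z) : z ∈ SS 8 := by
  have c : ∀ v, π z (c3 8 v) = c3 8 (π z v) := fun v => congrArg (· v) (π_x ▸ π_comm hx)
  have h1 := h 10 (by decide)
  have h2 := c 10
  rw [h1] at h2
  have h3 := c (c3 8 10)
  rw [h2] at h3
  have : ∀ v : Fin 11, 8 ≤ v.1 → v = 10 ∨ v = c3 8 10 ∨ v = c3 8 (c3 8 10) := by decide +kernel
  intro v hv
  rcases this v hv with rfl | rfl | rfl <;> assumption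

theorem Z_S : H8Ly.Z ≤ SS 8 := wsub_le fun w hw => by
  simp only [List.mem_cons, List.not_mem_nil, or_false] at hw
  rcases hw with rfl | rfl | rfl | rfl <;> rw [evs1]
  exacts [lB4 ▸ a_S, lB20 ▸ b_S, lB10 ▸ y_S, lB0 ▸ i_S]

theorem Z_of {z : K} (h : z ∈ SS 8) (hu : z * ku = ku * z) : z ∈ H8Ly.Z := by
  obtain ⟨l, hl, z0, h0, e⟩ := cenZ hu (S8_x h)
  have : kx ^ l ∈ SS 8 := by
    rw [← mul_inv_eq_iff_eq_mul] at e
    exact e ▸ mul_mem h (inv_mem (Z_S h0))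
  have := this 10 (by decide)
  rw [map_pow, π_x] at this
  obtain rfl : l = 0 := (by decide +kernel : ∀ l < 3, (c3 8 ^ l) 10 = 10 → l = 0) l hl this
  simpa [e] using h0

theorem S8_of_cube {z : K} (h : z ∈ SS 10) (hu : z * ku = ku * z) (h3 : z ^ 3 = 1) : z ∈ SS 8 :=
  S8_of_x h (comm_x_of_cube hu h3)

theorem M6' {z : K} (hz : z ∈ SS 8) (hu : z * ku = ku * z) (h3 : z ^ 3 = 1) : ∃ τ ∈ SS 8, τ * ku = ku * τ ∧
    InV (ka⁻¹ * (τ * ka * τ⁻¹)) ∧ InV (kb⁻¹ * (τ * kb * τ⁻¹)) ∧ ∃ n < 3, τ * z * τ⁻¹ = ky ^ n := by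
  obtain ⟨τ, τu, τx, τa, τb, n, hn, τz⟩ := M6 (Z_of hz hu) h3
  obtain ⟨l, -, z0, h0, rfl⟩ := cenZ τu τx
  have c0 : Commute (kx ^ l) z0 := (Commute.symm (Z_x h0)).pow_left l
  have k : ∀ w ∈ SS 8, kx ^ l * z0 * w * (kx ^ l * z0)⁻¹ = z0 * w * z0⁻¹ := fun w hw => by
    have c : Commute (kx ^ l) w := (Commute.symm (S8_x hw)).pow_left l
    rw [c0.eq, mul_assoc z0, c.eq]; group
  rw [k _ a_S] at τa
  rw [k _ b_S] at τb
  rw [k _ hz] at τz
  refine ⟨z0, Z_S h0, ?_, τa, τb, n, hn, τz⟩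
  rw [← mul_inv_eq_iff_eq_mul, ← k _ u_S, τu, mul_inv_cancel_right]

def L6 : List P11 := [1, swap 8 9, swap 8 10, swap 9 10, swap 8 9 * swap 9 10, swap 9 10 * swap 8 9]

theorem inv_conjS {n : ℕ} (n8 : 8 ≤ n) {z : K} (hz : z ∈ SS n) (h2 : z * z = 1) (h1 : z ≠ 1) (ht : z ≠ kt) :
    ∃ c ∈ SS n, z = c * ku * c⁻¹ := by
  obtain ⟨e, q⟩ := supp8 h2 h1 ht
  obtain ⟨ρ, hρ⟩ := conj_inv e uu_π q
  have f : ∀ v : Fin 11, n ≤ v.1 → 8 ≤ (ρ⁻¹ v).1 := fun v hv => by
    have h3 := hz v hv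
    rw [← hρ, π_u, Perm.mul_apply, Perm.mul_apply, ← Perm.eq_inv_iff_eq] at h3
    revert h3
    generalize ρ⁻¹ v = w
    revert w; decide +kernel
  have key : ∀ b1 b2 b3 : Bool, ∀ p q r : Fin 11, p ≠ q → p ≠ r → q ≠ r → (b1 → 8 ≤ p.1) → (b2 → 8 ≤ q.1) →
      (b3 → 8 ≤ r.1) → ∃ σ ∈ L6, (b1 → σ 8 = p) ∧ (b2 → σ 9 = q) ∧ (b3 → σ 10 = r) := by decide +kernel
  obtain ⟨σ, hσ, s1, s2, s3⟩ := key (decide (n ≤ 8)) (decide (n ≤ 9)) (decide (n ≤ 10)) (ρ⁻¹ 8) (ρ⁻¹ 9) (ρ⁻¹ 10)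
    (ρ⁻¹.injective.ne (by decide)) (ρ⁻¹.injective.ne (by decide)) (ρ⁻¹.injective.ne (by decide))
    (fun h => f 8 (by simpa using h)) (fun h => f 9 (by simpa using h)) (fun h => f 10 (by simpa using h))
  have cσ : σ * π ku * σ⁻¹ = π ku := by
    rw [π_u]; exact of_decide_eq_true (List.all_eq_true.1 (by decide +kernel :
      (L6.all fun σ => decide (σ * pB 4 * σ⁻¹ = pB 4)) = true) σ hσ)
  have g : ∀ v : Fin 11, n ≤ v.1 → (ρ * σ) v = v := fun v hv => by
    have : v = 8 ∨ v = 9 ∨ v = 10 := by omega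
    rcases this with rfl | rfl | rfl
    · rw [Perm.mul_apply, s1 (by simpa using hv)]; simp
    · rw [Perm.mul_apply, s2 (by simpa using hv)]; simp
    · rw [Perm.mul_apply, s3 (by simpa using hv)]; simp
  obtain ⟨c, h0, h⟩ := lift_conj (ρ := ρ * σ) (z := z) (v := ku) (by
    rw [← hρ]
    conv_rhs => rw [← cσ]
    group) (by rw [π_u]; decide +kernel)
  have hc : c ∈ SS n := fun v hv => by
    rcases h0 with h0 | h0
    · rw [h0, g v hv]
    · rw [h0, Perm.mul_apply, swap_apply_of_ne_of_ne (by omega) (by omega), g v hv]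
  rcases h with h | h
  exacts [⟨c, hc, h⟩, ⟨_, mul_mem hc (SS_mono n8 i_S), fix_u h⟩]

/-! ## the two elementary abelian groups of order 16 -/

def GW (e : Bool) : List (List ℕ) := if e then [[16], [8], [20], [22]] else [[16], [8], [4], [18]]
def MG (e : Bool) : List (List ℕ) := if e then [[16, 8], [8], [22], [20]] else [[16, 8], [8], [4], [10, 4, 11]]
def E4 (n : ℕ) : List ℕ := (if n % 2 = 1 then [0] else []) ++ (if n / 2 % 2 = 1 then [2] else []) ++
    (if n / 4 % 2 = 1 then [4] else []) ++ (if n / 8 % 2 = 1 then [6] else [])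
noncomputable def elW (e : Bool) (n : ℕ) : List ℕ := subW 0 4 (GW e) (E4 n)
noncomputable def mlW (e : Bool) (n : ℕ) : List ℕ := subW 0 4 (MG e) (E4 n)
noncomputable def el (e : Bool) (n : ℕ) : K := eK (elW e n)

theorem el_S (e : Bool) : ∀ n < 16, el e n ∈ SS 8 := fun n hn => memW (by revert n e; decide +kernel)
theorem el0 (e : Bool) : el e 0 = 1 := rfl
theorem el1 (e : Bool) : el e 1 = kt := by
  rw [el, show elW e 1 = [16] by revert e; decide +kernel]; exact (evs1 16).trans lB16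
theorem el2 (e : Bool) : el e 2 = ku := by
  rw [el, show elW e 2 = [8] by revert e; decide +kernel]; exact (evs1 8).trans lB8
theorem el3 (e : Bool) : el e 3 = kt * ku := by
  rw [el, show elW e 3 = [16, 8] by revert e; decide +kernel, eK, ev_cons, evs1, lB16, lB8]
theorem el4 : el false 4 = ka := by
  rw [el, show elW false 4 = [4] by decide +kernel]; exact (evs1 4).trans lB4
theorem el8 : el false 8 = ka2 := by
  rw [el, show elW false 8 = [18] by decide +kernel]; exact (evs1 18).trans lB18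

theorem el_odd (e : Bool) : ∀ m < 8, el e (2 * m + 1) = el e (2 * m) * kt := fun m hm => by
  have : ∀ e, ∀ m < 8, elW e (2 * m + 1) = 16 :: elW e (2 * m) := by decide +kernel
  rw [el, this e m hm, eK, ev_cons, lB16, t_comm]; rfl

theorem el_inj (e : Bool) : ∀ n < 16, ∀ m < 16, el e n = el e m → n = m := fun n hn m hm q => by
  by_contra h
  have := (allN_iff _ _).1 ((allN_iff _ _).1 (show allN (fun n => allN (fun m => bor (Nat.beq n m)
    (A.neq (A.evw TB0 (elW e n) A.one) (A.evw TB0 (elW e m) A.one))) 16) 16 = true by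
      cases e <;> decide +kernel) n hn) m hm
  rcases (bor_iff _ _).1 this with r | r
  · exact h (Nat.eq_of_beq_eq_true r)
  · exact neB r q

theorem cenE' (e : Bool) {z : K} (hz : z ∈ SS 10) (h2 : z * el e 2 = el e 2 * z) (h4 : z * el e 4 = el e 4 * z)
    (h8 : z * el e 8 = el e 8 * z) : ∃ n < 16, z = el e n := by
  have := sift_sound π_ker π_sign πevB (L := [2, 4, 8].map fun n => ev (atm 12 pB) (elW e n)) (α := 8) (β := 9)
    [(0, (List.range 8).map fun m => elW e (2 * m))]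
    (F := [10]) (by cases e <;> decide +kernel) (z := z) (by
      simp only [List.map_cons, List.map_nil, List.forall_mem_cons, List.not_mem_nil, false_imp_iff, implies_true,
        and_true, ← πevB]
      exact ⟨π_comm h2, π_comm h4, π_comm h8⟩) (by simpa using hz 10 (by decide))
  obtain ⟨w, hw, q⟩ := this
  obtain ⟨m, hm, rfl⟩ := List.mem_map.1 hw
  rw [List.mem_range] at hm
  change (el e (2 * m))⁻¹ * z = 1 ∨ (el e (2 * m))⁻¹ * z = kt at q
  rcases q with q | q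
  · exact ⟨2 * m, by omega, (inv_mul_eq_one.1 q).symm⟩
  · exact ⟨2 * m + 1, by omega, by rw [el_odd e m hm, ← q]; group⟩

theorem el_y : ∀ n < 16, el false n * ky = ky * el false n → n < 4 := fun n hn q => by
  have := (allN_iff _ _).1 (show allN (fun n => bor (A.neq (A.evw TB0 (elW false n ++ [10]) A.one)
    (A.evw TB0 (10 :: elW false n) A.one)) (Nat.blt n 4)) 16 = true by decide +kernel) n hn
  rcases (bor_iff _ _).1 this with r | r
  · have := neB r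
    rw [ev_append, evs1, ev_cons, lB10] at this
    exact absurd q this
  · exact Nat.blt_eq ▸ r

theorem cenV' {z : K} (hz : z ∈ SS 10) (hu : z * ku = ku * z) (ha : z * ka = ka * z) (hy : z * ky = ky * z) :
    InV z := by
  have hy' : Commute z ky := hy
  have ha' : Commute z ka := ha
  have h2 : z * ka2 = ka2 * z := by
    rw [k_a2d]; exact ((hy'.inv_right.mul_right ha').mul_right hy').eq
  obtain ⟨n, hn, rfl⟩ := cenE' false hz (by rwa [el2]) (by rwa [el4]) (by rwa [el8])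
  have := el_y n hn hy
  interval_cases n
  exacts [.inl rfl, .inr (.inl (el1 _)), .inr (.inr (.inl (el2 _))), .inr (.inr (.inr (el3 _)))]

/-! ## the generators of `2.A8` -/

def WG : List (List ℕ) := [[0], [4], [20], [6], [2, 6, 3], [], [10]]
noncomputable def kk : ℕ → K := wv 12 (κ false) WG
theorem kk_S : ∀ j < 7, kk j ∈ SS 8 := fun j hj => memW (by revert j; decide +kernel)
theorem ev_kk (l : List ℕ) : ev (atm 7 kk) l = eK (subW 0 7 WG l) := (ev_subW (ivOk_zero _ _) WG l).symm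
theorem kk0 : kk 0 = ki := (evs1 0).trans lB0
theorem kk1 : kk 1 = ka := (evs1 4).trans lB4
theorem kk2 : kk 2 = kb := (evs1 20).trans lB20
theorem kk6 : kk 6 = ky := (evs1 10).trans lB10

def PF : List (List ℕ × Bool × List ℕ) := [([6], false, [0, 14, 15, 1, 5, 11, 10, 4, 12, 2, 3, 13, 9, 7, 6, 8]), ([0, 6, 0], false, [0, 10, 11, 1, 5, 15, 14, 4, 13, 7, 6, 12, 8, 2, 3, 9]), ([8], true, [0, 10, 11, 1, 8, 2, 3, 9, 5, 15, 14, 4, 13, 7, 6, 12]), ([0, 8], true, [0, 15, 14, 1, 12, 3, 2, 13, 5, 10, 11, 4, 9, 6, 7, 8]), ([2, 6], false, [0, 14, 15, 1, 5, 11, 10, 4, 12, 2, 3, 13, 9, 7, 6, 8]), ([6, 12], false, [0, 14, 15, 1, 12, 2, 3, 13, 9, 7, 6, 8, 5, 11, 10, 4]), ([8, 0], true, [0, 11, 10, 1, 13, 6, 7, 12, 5, 14, 15, 4, 8, 3, 2, 9]), ([2, 8], true, [0, 9, 8, 1, 11, 2, 3, 10, 4, 13, 12, 5, 15, 6, 7, 14]), ([4, 8], true, [0, 10, 11, 1, 8, 2, 3, 9, 5, 15, 14, 4, 13, 7, 6, 12]), ([8, 12], true, [0, 10, 11, 1, 5, 15,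 14, 4, 13, 7, 6, 12, 8, 2, 3, 9]), ([13, 6], false, [0, 6, 7, 1, 9, 15, 14, 8, 4, 2, 3, 5, 13, 11, 10, 12]), ([13, 8], true, [0, 14, 15, 1, 12, 2, 3, 13, 9, 7, 6, 8, 5, 11, 10, 4])]

theorem PF_act : ∀ x ∈ PF, ∀ n < 16, ev (atm 7 kk) x.1 * eK (mlW x.2.1 n) * (ev (atm 7 kk) x.1)⁻¹ =
    el x.2.1 (x.2.2.getD n 0) := fun x hx n hn => by
  have := eqB ((allN_iff _ _).1 ((lall_iff _ _).1 (show lall (fun x : List ℕ × Bool × List ℕ => allN (fun n =>
    Nat.beq (A.evw TB0 (subW 0 7 WG x.1 ++ mlW x.2.1 n) A.one)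
      (A.evw TB0 (elW x.2.1 (x.2.2.getD n 0) ++ subW 0 7 WG x.1) A.one)) 16) PF = true by decide +kernel) x hx) n hn)
  rw [ev_append, ev_append] at this
  rw [ev_kk, mul_inv_eq_iff_eq_mul]
  exact this

theorem PF_fpf : ∀ x ∈ PF, ∀ n < 16, x.2.2.getD n 0 < 16 ∧ (x.2.2.getD · 0)^[5] n = n ∧
    (x.2.2.getD n 0 = n → n = 0) := by decide +kernel

end Cfsg.Agent.MC8
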