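import Cfsg.Agent.MC8.A
import Cfsg.Agent.H8.LyG

/-! # Groups with an involution centraliser `2.A_n`, `8 ≤ n ≤ 10`: the involution `m` -/

set_option autoImplicit false
set_option linter.unusedVariables false
set_option linter.unusedSimpArgs false
set_option linter.unusedSectionVars false

namespace Cfsg.Agent.MC8
open Subgroup Equiv Cfsg.Agent.Spor Cfsg.Agent.H8Ly

variable {G : Type} [Group G]

/-- `ψ` identifies `SS n` with the centraliser of the involution `ψ kt` -/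
structure LT (n : ℕ) (ψ : K → G) : Prop where
  n8 : 8 ≤ n
  n10 : n ≤ 10
  mul : ∀ z ∈ SS n, ∀ w ∈ SS n, ψ (z * w) = ψ z * ψ w
  inj : ∀ z ∈ SS n, ∀ w ∈ SS n, ψ z = ψ w → z = w
  cen : ∀ g, g * ψ kt = ψ kt * g → ∃ z ∈ SS n, ψ z = g

variable {n : ℕ} {ψ : K → G}

theorem LT.one (L : LT n ψ) : ψ 1 = 1 := by
  have := L.mul 1 (one_mem _) 1 (one_mem _)
  rw [mul_one] at this
  exact mul_left_cancel (this.symm.trans (mul_one _).symm)
theorem LT.inv (L : LT n ψ) {z : K} (hz : z ∈ SS n) : ψ z⁻¹ = (ψ z)⁻¹ :=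
  eq_inv_of_mul_eq_one_left (by rw [← L.mul _ (inv_mem hz) _ hz, inv_mul_cancel, L.one])
theorem LT.pow (L : LT n ψ) {z : K} (hz : z ∈ SS n) (k : ℕ) : ψ (z ^ k) = ψ z ^ k := by
  induction k with
  | zero => simp [L.one]
  | succ k ih => rw [pow_succ, L.mul _ (pow_mem hz k) _ hz, ih, pow_succ]
theorem LT.s8 (L : LT n ψ) {z : K} (hz : z ∈ SS 8) : z ∈ SS n := SS_mono L.n8 hz
theorem LT.s10 (L : LT n ψ) {z : K} (hz : z ∈ SS n) : z ∈ SS 10 := SS_mono L.n10 hz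

/-- conjugation by `h` takes `ψ z` to `ψ w` -/
structure Cj (L : LT n ψ) (h : G) (z w : K) : Prop where
  l : z ∈ SS n
  r : w ∈ SS n
  e : h * ψ z * h⁻¹ = ψ w

section
variable {L : LT n ψ} {h h' : G} {z w z' w' v v' : K}
theorem Cj.mul (a : Cj L h z w) (b : Cj L h z' w') : Cj L h (z * z') (w * w') :=
  ⟨mul_mem a.l b.l, mul_mem a.r b.r, by rw [L.mul _ a.l _ b.l, L.mul _ a.r _ b.r, ← a.e, ← b.e]; group⟩
theorem Cj.inv (a : Cj L h z w) : Cj L h z⁻¹ w⁻¹ :=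
  ⟨inv_mem a.l, inv_mem a.r, by rw [L.inv a.l, L.inv a.r, ← a.e]; group⟩
theorem Cj.one : Cj L h 1 1 := ⟨one_mem _, one_mem _, by simp [L.one]⟩
theorem Cj.pow (a : Cj L h z w) (k : ℕ) : Cj L h (z ^ k) (w ^ k) :=
  ⟨pow_mem a.l k, pow_mem a.r k, by rw [L.pow a.l, L.pow a.r, ← a.e, conj_pow]⟩
theorem Cj.comp (a : Cj L h z w) (b : Cj L h' w v) : Cj L (h' * h) z v :=
  ⟨a.l, b.r, by rw [← b.e, ← a.e]; group⟩
theorem Cj.symm (a : Cj L h z w) : Cj L h⁻¹ w z := ⟨a.r, a.l, by rw [← a.e]; group⟩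
theorem Cj.ofK {c : K} (hc : c ∈ SS n) (hz : z ∈ SS n) : Cj L (ψ c) z (c * z * c⁻¹) :=
  ⟨hz, mul_mem (mul_mem hc hz) (inv_mem hc), by
    rw [L.mul _ (mul_mem hc hz) _ (inv_mem hc), L.mul _ hc _ hz, L.inv hc]⟩
theorem Cj.thenK (a : Cj L h z w) {c : K} (hc : c ∈ SS n) : Cj L (ψ c * h) z (c * w * c⁻¹) :=
  a.comp (Cj.ofK hc a.r)
theorem Cj.of_eq (a : Cj L h z w) (e : w = w') : Cj L h z w' := e ▸ a
theorem Cj.fixK (a : Cj L h z w) {c : K} (hc : c ∈ SS n) (e : c * w = w * c) : Cj L (ψ c * h) z w :=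
  (a.thenK hc).of_eq (by rw [e, mul_inv_cancel_right])
theorem Cj.self (hz : z ∈ SS n) (e : h * ψ z = ψ z * h) : Cj L h z z := ⟨hz, hz, by rw [e, mul_inv_cancel_right]⟩
theorem Cj.comm_of (a : Cj L h z z) : h * ψ z = ψ z * h := mul_inv_eq_iff_eq_mul.1 a.e
theorem Cj.ev {k : ℕ} {f g : ℕ → K} (a : ∀ j < k, Cj L h (f j) (g j)) (l : List ℕ) :
    Cj L h (ev (atm k f) l) (ev (atm k g) l) := by
  induction l with
  | nil => exact Cj.one
  | cons y l ih =>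
    rw [ev_cons, ev_cons]
    refine Cj.mul ?_ ih
    rw [atm_def, atm_def]
    split_ifs with h1 h2
    exacts [a _ h1, (a _ h1).inv, Cj.one]
theorem Cj.uniq (a : Cj L h z w) (b : Cj L h z w') : w = w' := L.inj _ a.r _ b.r (a.e.symm.trans b.e)
theorem Cj.cinj (a : Cj L h z w) (b : Cj L h z' w) : z = z' := a.symm.uniq b.symm
theorem Cj.comm (a : Cj L h z w) (b : Cj L h z' w') (e : z * z' = z' * z) : w * w' = w' * w :=
  (a.mul b).uniq (by rw [e]; exact b.mul a)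
theorem Cj.pow1 (a : Cj L h z w) {k : ℕ} (e : z ^ k = 1) : w ^ k = 1 := (a.pow k).uniq (by rw [e]; exact Cj.one)
theorem Cj.sq1 (a : Cj L h z w) (e : z * z = 1) : w * w = 1 := (a.mul a).uniq (by rw [e]; exact Cj.one)
theorem Cj.ne1 (a : Cj L h z w) (e : z ≠ 1) : w ≠ 1 := fun q => e ((a.of_eq q).cinj Cj.one)
theorem Cj.cK {c : K} (hc : c ∈ SS n) (a : Cj L (ψ c) z z) : c * z = z * c :=
  mul_inv_eq_iff_eq_mul.1 ((Cj.ofK hc a.l).uniq a)
theorem Cj.inK (a : Cj L h kt kt) : ∃ c ∈ SS n, ψ c = h := L.cen h a.comm_of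

/-- an element taking `v` to `t` takes the centraliser of `v` into `SS n` -/
theorem Cj.ex (a : Cj L h v kt) (hz : z ∈ SS n) (e : z * v = v * z) : ∃ w, Cj L h z w := by
  obtain ⟨w, hw, q⟩ := L.cen (h * ψ z * h⁻¹) (by
    rw [← a.e]
    calc h * ψ z * h⁻¹ * (h * ψ v * h⁻¹) = h * ψ (z * v) * h⁻¹ := by rw [L.mul _ hz _ a.l]; group
      _ = _ := by rw [e, L.mul _ a.l _ hz]; group)
  exact ⟨w, hz, hw, q.symm⟩

theorem Cj.exV (a : Cj L h v kt) (b : Cj L h v' ku) (hv : InV v) (hv' : InV v') (hz : z ∈ SS n)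
    (e : z * ku = ku * z) : ∃ w, Cj L h z w ∧ w * ku = ku * w := by
  obtain ⟨w, hw⟩ := a.ex hz (hv.comm e)
  exact ⟨w, hw, hw.comm b (hv'.comm e)⟩

theorem Cj.ex8 (a : Cj L h v kt) (b : Cj L h v' ku) (hv : InV v) (hv' : InV v') (hz : z ∈ SS 8)
    (e : z * ku = ku * z) {y : K} (hy : y ∈ SS 8) (yu : y * ku = ku * y) (y3 : y ^ 3 = 1) (h3 : (y * z) ^ 3 = 1) :
    ∃ w ∈ SS 8, Cj L h z w ∧ w * ku = ku * w := by
  obtain ⟨w, hw, wu⟩ := a.exV b hv hv' (L.s8 hz) e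
  obtain ⟨y', hy', yu'⟩ := a.exV b hv hv' (L.s8 hy) yu
  have h1 := S8_of_cube (L.s10 hy'.r) yu' (hy'.pow1 y3)
  have h2 := S8_of_cube (L.s10 (hy'.mul hw).r) (by rw [mul_assoc, wu, ← mul_assoc, yu', mul_assoc])
    ((hy'.mul hw).pow1 h3)
  exact ⟨w, by simpa using mul_mem (inv_mem h1) h2, hw, wu⟩
end

theorem LT.ord (L : LT n ψ) {z : K} (hz : z ∈ SS n) (h2 : z * z = 1) (h1 : z ≠ 1) : orderOf (ψ z) = 2 :=
  orderOf_eq_prime (by rw [pow_two, ← L.mul _ hz _ hz, h2, L.one]) fun q =>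
    h1 (L.inj _ hz _ (one_mem _) (q.trans L.one.symm))

theorem LT.exists_swap (L : LT n ψ) [Finite G] [IsSimpleGroup G] : ∃ r, Cj L r kt ku ∧ Cj L r ku kt := by
  have o := L.ord (kt_mem n) k_tt k_t_ne
  have : ¬ IsIsolatedInvolution (ψ kt) := fun hi => by
    haveI : Fact (Nat.Prime 2) := ⟨Nat.prime_two⟩
    have hO : pPrimeCore 2 G = ⊥ := by
      refine (inferInstance : (pPrimeCore 2 G).Normal).eq_bot_or_eq_top.resolve_right fun q => ?_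
      have := Core.not_dvd_card_pPrimeCore (G := G) 2
      rw [q, card_top, ← o] at this
      exact this (orderOf_dvd_natCard _)
    have c : ψ kt ∈ center G := mem_center_iff.2 fun g => by
      have := Blk.zstar hi g
      rw [hO, mem_bot, mul_inv_eq_one, mul_inv_eq_iff_eq_mul] at this
      exact this.symm
    rcases (inferInstance : (center G).Normal).eq_bot_or_eq_top with q | q
    · rw [q, mem_bot] at c
      rw [c, orderOf_one] at o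
      omega
    · exact k_ab_ne (L.inj _ (L.s8 (mul_mem a_S b_S)) _ (L.s8 (mul_mem b_S a_S)) (by
        rw [L.mul _ (L.s8 a_S) _ (L.s8 b_S), L.mul _ (L.s8 b_S) _ (L.s8 a_S)]
        exact mem_center_iff.1 (q ▸ mem_top (ψ kb)) _))
  rw [IsIsolatedInvolution, not_and, not_forall] at this
  obtain ⟨g, hg⟩ := this o
  rw [Classical.not_imp] at hg
  obtain ⟨z, zS, hz⟩ := L.cen _ hg.1.eq.symm
  have a : Cj L g kt z := ⟨kt_mem n, zS, hz.symm⟩
  obtain ⟨c, cS, rfl⟩ := inv_conjS L.n8 zS (a.sq1 k_tt) (a.ne1 k_t_ne) (fun q => hg.2 (by rw [← hz, q]))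
  have b : Cj L (ψ c⁻¹ * g) kt ku := (a.thenK (inv_mem cS)).of_eq (by group)
  obtain ⟨w, hw⟩ := b.symm.ex (kt_mem n) (t_comm ku).symm
  obtain ⟨d, dS, rfl⟩ := inv_conjS L.n8 hw.r (hw.sq1 k_tt) (hw.ne1 k_t_ne)
    (fun q => k_u_net (b.symm.cinj (hw.of_eq q)))
  refine ⟨ψ c⁻¹ * g * ψ d, Cj.comp (Cj.self (kt_mem n) ?_) b, ?_⟩
  · rw [← L.mul _ dS _ (kt_mem n), t_comm, L.mul _ (kt_mem n) _ dS]
  · simpa using (Cj.ofK dS (L.s8 u_S)).comp hw.symm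

variable {L : LT n ψ} {m : G}

structure Mt (L : LT n ψ) (m : G) : Prop where
  t : Cj L m kt (kt * ku)
  u : Cj L m ku ku

theorem Mt.tu (M : Mt L m) : Cj L m (kt * ku) kt := (M.t.mul M.u).of_eq tuu

theorem Mt.mulK (M : Mt L m) {c : K} (hc : c ∈ SS n) (hu : c * ku = ku * c) : Mt L (ψ c * m) :=
  ⟨M.t.fixK hc (inV_tu.comm hu), M.u.fixK hc hu⟩

structure MA (L : LT n ψ) (m : G) : Prop extends Mt L m where
  a : Cj L m ka ka
  b : Cj L m kb kb2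
  y : Cj L m ky ky⁻¹

theorem MA.mulK (M : MA L m) {c : K} (hc : c ∈ SS n) (hu : c * ku = ku * c) (ha : c * ka = ka * c)
    (hb : c * kb = kb * c) (hy : c * ky = ky * c) : MA L (ψ c * m) := by
  have hy' : Commute c ky := hy
  have hb' : Commute c kb := hb
  refine ⟨M.toMt.mulK hc hu, M.a.fixK hc ha, M.b.fixK hc ?_, M.y.fixK hc hy'.inv_right.eq⟩
  rw [k_b2d]; exact ((hy'.inv_right.mul_right hb').mul_right hy').eq

theorem MA.yi (M : MA L m) : Cj L m ky⁻¹ ky := M.y.inv.of_eq (inv_inv _)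

theorem MA.b2 (M : MA L m) : Cj L m kb2 kb := by
  have := (M.y.inv.mul M.b).mul M.y
  rw [← k_b2d] at this
  exact this.of_eq (by rw [k_b2d]; group)

theorem MA.a2 (M : MA L m) : Cj L m ka2 (ky * ka * ky⁻¹) := by
  have := (M.y.inv.mul M.a).mul M.y
  rw [← k_a2d] at this
  exact this.of_eq (by rw [inv_inv])

theorem LT.exists_m0 (L : LT n ψ) [Finite G] [IsSimpleGroup G] : ∃ m, Mt L m ∧
    ∀ z ∈ SS 8, z * ku = ku * z → (ky * z) ^ 3 = 1 → z * z = 1 → ∃ w ∈ SS 8, Cj L m z w ∧ w * z = z * w := by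
  obtain ⟨r, a, b⟩ := L.exists_swap
  have iS := L.s8 i_S
  have M : Mt L (r * (ψ ki * r⁻¹)) := ⟨(((b.symm.thenK iS).of_eq k_iu).comp (a.mul b)).of_eq (t_comm ku),
    (a.symm.fixK iS (t_comm ki)).comp a⟩
  refine ⟨_, M, fun z hz hu h3 h2 => ?_⟩
  obtain ⟨z', h4, h1, h3'⟩ := a.symm.ex8 b.symm inV_u inV_t hz hu y_S k_yu k_y3 h3
  have h5 := M7 h3' (S8_x h4) (h1.sq1 h2)
  obtain ⟨w, wS, h6, -⟩ := M.tu.ex8 M.u inV_tu inV_u hz hu y_S k_yu k_y3 h3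
  have h7 : Cj L r (ki * z' * ki⁻¹) w := by
    simpa only [mul_inv_cancel_right] using (h1.thenK iS).symm.comp h6
  exact ⟨w, wS, h6, h7.comm (inv_inv r ▸ h1.symm) h5.symm⟩

theorem LT.exists_m1 (L : LT n ψ) [Finite G] [IsSimpleGroup G] : ∃ m, Mt L m ∧ ∃ k, (k = 1 ∨ k = 2) ∧
    Cj L m ky (ky ^ k) ∧ (∃ j, Cj L m ka (ky ^ j * ka * (ky ^ j)⁻¹)) ∧
    ∃ j, Cj L m kb (ky ^ j * kb * (ky ^ j)⁻¹) := by
  obtain ⟨m, M, hm⟩ := L.exists_m0
  obtain ⟨y', h1, yu⟩ := M.tu.exV M.u inV_tu inV_u (L.s8 y_S) k_yu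
  have h3 := h1.pow1 k_y3
  obtain ⟨τ, τS, τu, τa, τb, k, hk, τz⟩ := M6' (S8_of_cube (L.s10 h1.r) yu h3) yu h3
  have M' := M.mulK (L.s8 τS) τu
  have hy : Cj L (ψ τ * m) ky (ky ^ k) := (h1.thenK (L.s8 τS)).of_eq τz
  have n0 : k ≠ 0 := by
    rintro rfl
    exact hy.ne1 k_y_ne0 (pow_zero _)
  have key : ∀ a ∈ SS 8, a * ku = ku * a → a * a = 1 → a ≠ 1 → (ky * a) ^ 3 = 1 →
      InV (a⁻¹ * (τ * a * τ⁻¹)) → ∃ w, Cj L (ψ τ * m) a w ∧ w * ku = ku * w ∧ w * kx = kx * w ∧ w * w = 1 ∧ w ≠ 1 ∧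
        w * a = a * w ∧ (ky * w) ^ 3 = 1 := by
    intro a aS au aa a1 a3 av
    obtain ⟨w, wS, w1, w2⟩ := hm a aS au a3 aa
    have w3 := w1.thenK (L.s8 τS)
    have wu := w3.comm M'.u au
    have ww := w3.sq1 aa
    refine ⟨_, w3, wu, S8_x (mul_mem (mul_mem τS wS) (inv_mem τS)), ww, w3.ne1 a1, ?_, ?_⟩
    · have c1 : Commute (τ * w * τ⁻¹) (τ * a * τ⁻¹) := by
        show _ * _ = _ * _
        calc _ = τ * (w * a) * τ⁻¹ := by group
          _ = _ := by rw [w2]; group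
      have c2 : Commute (τ * w * τ⁻¹) (a⁻¹ * (τ * a * τ⁻¹)) := av.comm wu
      have := (c1.mul_right c2.inv_right).eq
      rwa [show τ * a * τ⁻¹ * (a⁻¹ * (τ * a * τ⁻¹))⁻¹ = a by group] at this
    · have := (hy.mul w3).pow1 a3
      have n12 : k = 1 ∨ k = 2 := by omega
      rcases n12 with rfl | rfl
      · simpa using this
      · exact cube_tw y_sq ww this
  obtain ⟨a', a1, a2, a3, a4, a5, a6, a7⟩ := key ka a_S k_au k_aa k_a_ne k_ya3 τa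
  obtain ⟨b', b1, b2, b3, b4, b5, b6, b7⟩ := key kb b_S k_bu k_bb k_b_ne k_yb3 τb
  obtain ⟨j, -, ej⟩ := M8a a2 a3 a4 a5 a6 a7
  obtain ⟨j', -, ej'⟩ := M8b b2 b3 b4 b5 b6 b7
  exact ⟨_, M', k, by omega, hy, ⟨j, a1.of_eq ej⟩, j', b1.of_eq ej'⟩

theorem LT.exists_m2 (L : LT n ψ) [Finite G] [IsSimpleGroup G] : ∃ m, MA L m := by
  obtain ⟨m, M, k, hk, hy, ⟨j, ha⟩, j', hb⟩ := L.exists_m1
  have cu : Commute ky ku := k_yu
  have cS : (ky ^ j)⁻¹ ∈ SS n := L.s8 (inv_mem (pow_mem y_S j))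
  have M' := M.mulK cS (cu.pow_left j).inv_left.eq
  have ha' : Cj L (ψ (ky ^ j)⁻¹ * m) ka ka := (ha.thenK cS).of_eq (by group)
  have hy' : Cj L (ψ (ky ^ j)⁻¹ * m) ky (ky ^ k) := hy.fixK cS (Commute.pow_pow_self ky j k).inv_left.eq
  have e : (ky ^ j)⁻¹ * ky ^ j' = ky ^ ((2 * j + j') % 3) := by
    rw [← pow_eq_pow_mod _ k_y3, pow_add, pow_mul, y_sq, inv_pow]
  have hb' : Cj L (ψ (ky ^ j)⁻¹ * m) kb (ky ^ ((2 * j + j') % 3) * kb * (ky ^ ((2 * j + j') % 3))⁻¹) :=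
    (hb.thenK cS).of_eq (by rw [← e]; group)
  generalize ψ (ky ^ j)⁻¹ * m = m' at *
  have q := ((ha'.mul hb').mul ha'.inv).mul hb'.inv
  rw [k_ab] at q
  have q := q.uniq M'.t
  have l3 : (2 * j + j') % 3 < 3 := Nat.mod_lt _ (by omega)
  generalize (2 * j + j') % 3 = s at *
  have hb2 : Cj L m' kb kb2 := by
    interval_cases s
    · exact absurd (by simpa using q) k_ab0
    · exact absurd (by simpa using q) k_ab1
    · exact hb'.of_eq (by rw [y_sq, k_b2d, inv_inv])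
  rcases hk with rfl | rfl
  · exfalso
    have h2 : Cj L m' ka2 ka2 := by
      have := (hy'.inv.mul ha').mul hy'
      rwa [pow_one, ← k_a2d] at this
    have q := ((h2.mul hb2).mul h2.inv).mul hb2.inv
    rw [k_a2b] at q
    exact k_a2b2 (q.uniq M'.u)
  · exact ⟨m', M', ha', hb2, y_sq ▸ hy'⟩

theorem LT.exists_m (L : LT n ψ) [Finite G] [IsSimpleGroup G] : ∃ m, MA L m ∧ m * m = 1 := by
  obtain ⟨m, M⟩ := L.exists_m2
  obtain ⟨z, zS, hz⟩ := (M.t.comp M.tu).inK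
  have hv := cenV' (L.s10 zS) (Cj.cK zS (hz ▸ M.u.comp M.u)) (Cj.cK zS (hz ▸ M.a.comp M.a))
    (Cj.cK zS (hz ▸ M.y.comp M.yi))
  have b : Cj L m z z := Cj.self zS (by rw [hz, mul_assoc])
  rcases hv with rfl | rfl | rfl | rfl
  · exact ⟨m, M, by rw [← hz, L.one]⟩
  · exact absurd (by simpa using b.uniq M.t) k_u_ne
  · refine ⟨_, M.mulK (kt_mem n) (t_comm _).symm (t_comm _).symm (t_comm _).symm (t_comm _).symm, ?_⟩
    calc ψ kt * m * (ψ kt * m) = ψ kt * (m * ψ kt * m⁻¹) * (m * m) := by group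
      _ = 1 := by
        rw [M.t.e, ← hz, ← L.mul _ (kt_mem n) _ M.t.r, ← L.mul _ (mul_mem (kt_mem n) M.t.r) _ zS, mul_assoc, tuu,
          k_tt, L.one]
  · exact absurd (by simpa using b.uniq M.tu) k_u_ne

theorem MA.el (M : MA L m) (e : Bool) (k : ℕ) : Cj L m (el e k) (eK (mlW e k)) := by
  rw [MC8.el, eK, eK, elW, mlW, ev_subW (ivOk_zero _ _), ev_subW (ivOk_zero _ _)]
  refine Cj.ev (fun j hj => ?_) _
  cases e <;> interval_cases j <;> simp only [wv, GW, MG, if_true, Bool.false_eq_true, if_false, List.getD_cons_zero,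
    List.getD_cons_succ, ev_cons, ev_nil, mul_one, lB16, lB8, lB4, lB18, lB10, lB11, lB20, lB22, ← mul_assoc]
  exacts [M.t, M.u, M.a, M.a2, M.t, M.u, M.b, M.b2]

theorem kk_ev_S (l : List ℕ) : ev (atm 7 kk) l ∈ SS 8 := ev_mem_of kk_S l

theorem MA.five (M : MA L m) : ∀ x ∈ PF, (ψ (ev (atm 7 kk) x.1) * m) ^ 5 = 1 := fun x hx => by
  have hF : ∀ k < 16, Cj L (ψ (ev (atm 7 kk) x.1) * m) (MC8.el x.2.1 k) (MC8.el x.2.1 (x.2.2.getD k 0)) :=
    fun k hk => ((M.el _ k).thenK (L.s8 (kk_ev_S _))).of_eq (PF_act x hx k hk)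
  have hc := PF_fpf x hx
  generalize ψ (ev (atm 7 kk) x.1) * m = h at *
  have h5 : ∀ k < 16, Cj L (h ^ 5) (MC8.el x.2.1 k) (MC8.el x.2.1 k) := fun k h0 => by
    have h1 := (hc _ h0).1
    have h2 := (hc _ h1).1
    have h3 := (hc _ h2).1
    have h4 := (hc _ h3).1
    have := ((((hF _ h0).comp (hF _ h1)).comp (hF _ h2)).comp (hF _ h3)).comp (hF _ h4)
    have e := (hc _ h0).2.1
    simp only [Function.iterate_succ, Function.iterate_zero, Function.comp_apply, id] at e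
    rw [e] at this
    simpa only [pow_succ', pow_zero, mul_one] using this
  obtain ⟨z, zS, hz⟩ := (el1 x.2.1 ▸ h5 1 (by omega)).inK
  rw [← hz] at h5
  obtain ⟨k, hk, rfl⟩ := cenE' x.2.1 (L.s10 zS) (Cj.cK zS (h5 2 (by omega))) (Cj.cK zS (h5 4 (by omega)))
    (Cj.cK zS (h5 8 (by omega)))
  have c : Cj L h _ _ := Cj.self zS (hz ▸ (Commute.self_pow _ 5).eq)
  rw [← hz, (hc k hk).2.2 (el_inj _ _ hk _ (hc k hk).1 (c.uniq (hF k hk))).symm, el0, L.one]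

theorem MA.im3 (M : MA L m) : (ψ ki * m) ^ 3 = 1 := by
  have iS := L.s8 i_S
  have ht := (M.t.thenK iS).of_eq k_itu
  have hu := (M.u.thenK iS).of_eq k_iu
  have htu := M.tu.fixK iS (t_comm ki)
  have ha := (M.a.thenK iS).of_eq k_ia
  have hy := (M.y.thenK iS).of_eq k_iyi
  generalize ψ ki * m = h at *
  have p3 : h ^ 3 = h * (h * h) := by simp only [pow_succ', pow_zero, mul_one]
  obtain ⟨z, zS, hz⟩ := ((ht.comp hu).comp htu).inK
  have hv := cenV' (L.s10 zS) (Cj.cK zS (hz ▸ (hu.comp htu).comp ht)) (Cj.cK zS (hz ▸ (ha.comp ha).comp ha))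
    (Cj.cK zS (hz ▸ (hy.comp hy).comp hy))
  rw [← p3] at hz
  have b : Cj L h z z := Cj.self zS (hz ▸ (Commute.self_pow _ 3).eq)
  rcases hv with rfl | rfl | rfl | rfl
  · rw [← hz, L.one]
  · exact absurd (ht.uniq b) k_u_net
  · exact absurd (by simpa using hu.uniq b) k_t_ne
  · exact absurd (by simpa using b.uniq htu) k_u_ne

end Cfsg.Agent.MC8
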