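import Cfsg.Agent.MC8.BigP
import Cfsg.Agent.BG.Base2
import Cfsg.Agent.Blk.ZStar
/-! An involution centraliser `2.Aₙ` in a simple group has `8 ≤ n ≤ 11`. -/
set_option autoImplicit false
set_option linter.unusedVariables false
set_option linter.unusedSectionVars false

namespace Cfsg.Agent.MC8
open Subgroup Equiv Cfsg.Agent.BG Cfsg.Agent.Inv

namespace Big
variable {G α : Type*} [Group G] [Fintype α] [DecidableEq α]

structure St (z : G) (π : G → Perm α) : Prop where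
  oz : orderOf z = 2
  mul : ∀ a ∈ C1[z], ∀ b ∈ C1[z], π (a * b) = π a * π b
  ker : ∀ a ∈ C1[z], π a = 1 → a = 1 ∨ a = z
  ev : ∀ a ∈ C1[z], Perm.sign (π a) = 1
  sur : ∀ σ, Perm.sign σ = 1 → ∃ a ∈ C1[z], π a = σ
  dbl : ∀ a ∈ C1[z], Dbl (π a) → a * a = z

variable {z t a b x : G} {π φ : G → Perm α} {n : ℕ}

namespace St
variable (h : St z π)
include h

theorem one : π 1 = 1 := by simpa using h.mul 1 (one_mem _) 1 (one_mem _)
theorem pow (ha : a ∈ C1[z]) (n : ℕ) : π (a ^ n) = π a ^ n := by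
  induction n with
  | zero => simp [h.one]
  | succ n ih => rw [pow_succ, h.mul _ (pow_mem ha n) _ ha, ih, pow_succ]
theorem inv (ha : a ∈ C1[z]) : π a⁻¹ = (π a)⁻¹ :=
  eq_inv_of_mul_eq_one_left (by rw [← h.mul _ (inv_mem ha) _ ha, inv_mul_cancel, h.one])
theorem cnj (ha : a ∈ C1[z]) (hb : b ∈ C1[z]) : π (a * b * a⁻¹) = π a * π b * (π a)⁻¹ := by
  rw [h.mul _ (mul_mem ha hb) _ (inv_mem ha), h.mul _ ha _ hb, h.inv ha]
theorem cm (ha : a ∈ C1[z]) (hb : b ∈ C1[z]) (e : a * b = b * a) : π a * π b = π b * π a := by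
  rw [← h.mul _ ha _ hb, e, h.mul _ hb _ ha]
theorem p1 (ha : a ∈ C1[z]) (e : a ^ n = 1) : π a ^ n = 1 := by rw [← h.pow ha, e, h.one]
theorem sq2 (ha : a ∈ C1[z]) (hb : b ∈ C1[z]) : π (a * b * (a * b)) = π a * π b * (π a * π b) := by
  rw [h.mul _ (mul_mem ha hb) _ (mul_mem ha hb), h.mul _ ha _ hb]
theorem eqL (ha : a ∈ C1[z]) (hb : b ∈ C1[z]) (e : π a = π b) : b = a ∨ b = a * z :=
  (h.ker _ (mul_mem (inv_mem ha) hb) (by rw [h.mul _ (inv_mem ha) _ hb, h.inv ha, e, inv_mul_cancel])).imp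
    (fun i => (inv_mul_eq_one.1 i).symm) fun i => by rw [← i, mul_inv_cancel_left]

theorem lift {f : Perm α} (e : f ^ 3 = 1) : ∃ b ∈ C1[z], π b = f ∧ b ^ 3 = 1 := by
  obtain ⟨a, ha, rfl⟩ := h.sur f (even_of_odd (by decide) e)
  refine ⟨a ^ 4, pow_mem ha _, by rw [h.pow ha, pow_succ, e, one_mul], ?_⟩
  rw [← pow_mul, show 4 * 3 = 3 * 2 * 2 from rfl, pow_mul, pow_mul]
  rcases h.ker _ (pow_mem ha 3) (by rw [h.pow ha, e]) with i | i <;> simp [i, pow_two, sq_of_ord2 h.oz]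

theorem comm (hx : x ∈ C1[z]) (hb : b ∈ C1[z]) (e : b ^ 3 = 1) (c : π x * π b = π b * π x) : x * b = b * x := by
  rcases h.eqL hb (mul_mem (mul_mem hx hb) (inv_mem hx)) (by rw [h.cnj hx hb, c, mul_inv_cancel_right]) with i | i
  · exact mul_inv_eq_iff_eq_mul.1 i
  · have := congrArg (· ^ 3) i
    simp only [conj_pow, (show Commute b z from mem_C1.1 hb).mul_pow, e] at this
    rw [pow_succ, pow_two, sq_of_ord2 h.oz] at this
    exact absurd (by simpa using this.symm) (ne_one_of_ord2 h.oz)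

theorem conj (g : G) : St (g * z * g⁻¹) fun a => π (g⁻¹ * a * g) := by
  have c : ∀ {a}, a ∈ C1[g * z * g⁻¹] ↔ g⁻¹ * a * g ∈ C1[z] := by rw [← cj_C1]; exact mem_cj
  have m : ∀ a b, g⁻¹ * (a * b) * g = g⁻¹ * a * g * (g⁻¹ * b * g) := fun a b => by group
  refine ⟨by rw [orderOf_conj', h.oz], fun a i b j => by rw [m, h.mul _ (c.1 i) _ (c.1 j)],
    fun a i j => (h.ker _ (c.1 i) j).imp (fun e => by simpa [mul_assoc] using congrArg (g * · * g⁻¹) e)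
      fun e => by rw [← e]; group, fun a i => h.ev _ (c.1 i), fun σ i => ?_,
    fun a i j => by rw [← h.dbl _ (c.1 i) j]; group⟩
  obtain ⟨a, j, e⟩ := h.sur σ i
  exact ⟨_, cj_C1 g z ▸ mem_cj_conj.2 j, by rw [← e]; congr 1; group⟩

end St

structure Pr (z : G) (π : G → Perm α) (t : G) (φ : G → Perm α) : Prop where
  l : St z π
  r : St t φ
  tz : t ∈ C1[z]
  ne : t ≠ z

namespace Pr
variable (h : Pr z π t φ)
include h

theorem symm : Pr t φ z π := ⟨h.r, h.l, C1_symm h.tz, h.ne.symm⟩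

theorem tt : π t * π t = 1 := by rw [← h.l.mul _ h.tz _ h.tz, sq_of_ord2 h.r.oz, h.l.one]

theorem ge8 : 8 ≤ (π t).support.card :=
  (supp_inv h.tt (fun e => (h.l.ker t h.tz e).elim (ne_one_of_ord2 h.r.oz) h.ne) (h.l.ev t h.tz)).resolve_left fun e =>
    ne_one_of_ord2 h.l.oz ((h.l.dbl t h.tz ⟨h.tt, e⟩).symm.trans (sq_of_ord2 h.r.oz))

theorem lift {f : Perm α} (e : f ^ 3 = 1) (c : π t * f = f * π t) :
    ∃ b ∈ C1[z], π b = f ∧ b ^ 3 = 1 ∧ b ∈ C1[t] := by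
  obtain ⟨b, b1, rfl, b3⟩ := h.l.lift e
  exact ⟨b, b1, rfl, b3, mem_C1'.2 (h.l.comm h.tz b1 b3 c)⟩

theorem le8 : (φ z).support.card ≤ 8 := by
  by_contra! n
  obtain ⟨f, g, f3, g3, c1, c2, d, b, -⟩ := tri h.tt h.ge8
  obtain ⟨f, fz, rfl, -, ft⟩ := h.lift f3 c1
  obtain ⟨g, gz, rfl, -, gt⟩ := h.lift g3 c2
  have ez := mul_mem gz fz
  have et := mul_mem gt ft
  rw [← h.l.mul _ gz _ fz] at d b
  have e := h.l.dbl _ ez d
  generalize g * f = x at *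
  obtain ⟨δ, d3, c3, n1, n2⟩ := big h.symm.tt (by rw [← h.r.mul _ et _ et, e]) n
  obtain ⟨y, yt, rfl, -, yz⟩ := h.symm.lift d3 c3
  have wz := mul_mem (mul_mem yz ez) (inv_mem yz)
  have wt := mul_mem (mul_mem yt et) (inv_mem yt)
  rw [← h.r.cnj yt et, ← h.r.mul _ wt _ et, ← h.r.mul _ et _ wt] at n1 n2
  rw [← h.r.mul _ (mul_mem et wt) _ h.symm.tz] at n2
  refine (h.l.eqL (mul_mem ez wz) (mul_mem wz ez) ?_).elim (fun i => n1 (congrArg φ i)) fun i => n2 (congrArg φ i)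
  rw [h.l.mul _ ez _ wz, h.l.mul _ wz _ ez, h.l.cnj yz ez]
  exact b.comm (b.conj (h.l.cm h.tz yz (mem_C1'.1 yt)))

theorem le11 : Fintype.card α ≤ 11 := by
  by_contra! n
  obtain ⟨f, g, f3, g3, c1, c2, d, -, b⟩ := tri h.tt h.ge8
  obtain ⟨x, y, x3, y3, d', k⟩ := quad (σ := π t) (by have := h.symm.le8; omega)
  obtain ⟨c3, c4⟩ := k _ fun _ => id
  obtain ⟨c5, c6⟩ := k f b
  obtain ⟨f, fz, rfl, f3, ft⟩ := h.lift f3 c1
  obtain ⟨g, gz, rfl, g3, gt⟩ := h.lift g3 c2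
  obtain ⟨x, xz, rfl, x3, xt⟩ := h.lift x3 c3
  obtain ⟨y, yz, rfl, y3, yt⟩ := h.lift y3 c4
  rw [← h.l.mul _ gz _ fz] at d
  rw [← h.l.mul _ xz _ yz] at d'
  have c : ∀ {a}, a ∈ C1[z] → a ∈ C1[t] → φ z * φ a = φ a * φ z := fun i j => h.r.cm h.symm.tz j (mem_C1'.1 i)
  exact four h.symm.tt (le_antisymm h.le8 h.symm.ge8) (h.r.p1 xt x3) (h.r.p1 yt y3) (h.r.p1 ft f3) (h.r.p1 gt g3)
    (c xz xt) (c yz yt) (c fz ft) (c gz gt) (by rw [← h.r.sq2 xt yt, h.l.dbl _ (mul_mem xz yz) d'])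
    (by rw [← h.r.sq2 gt ft, h.l.dbl _ (mul_mem gz fz) d]) (h.r.cm xt ft (h.l.comm fz xz x3 c5).symm)
    (h.r.cm yt ft (h.l.comm fz yz y3 c6).symm)

end Pr

theorem exists_st (h4 : 4 ≤ Fintype.card α) (hz : orderOf z = 2)
    (hX : IsNonsplitDoubleCover C1[z] (alternatingGroup α)) : ∃ π : G → Perm α, St z π := by
  classical
  obtain ⟨ψ, ⟨w, hw⟩, hs, hk, c, d⟩ := cover h4 hX
  obtain rfl : z = w := congrArg Subtype.val ((c ⟨z, mem_C1_self z⟩ (mem_center_iff.2 fun g =>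
    Subtype.ext (mem_C1.1 g.2))).resolve_left fun e => ne_one_of_ord2 hz (congrArg Subtype.val e))
  let π : G → Perm α := fun a => if i : a ∈ C1[z] then ψ ⟨a, i⟩ else 1
  have e : ∀ a (i : a ∈ C1[z]), π a = ψ ⟨a, i⟩ := fun a i => dif_pos i
  refine ⟨π, hz, fun a i b j => by rw [e a i, e b j, e _ (mul_mem i j), ← coe_mul, ← map_mul]; rfl, fun a i j => ?_,
    fun a i => e a i ▸ (ψ _).2, fun σ i => ?_, fun a i j => congrArg Subtype.val (d ⟨a, i⟩ (e a i ▸ j))⟩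
  · exact (c ⟨a, i⟩ (hk ▸ Subtype.ext (e a i ▸ j))).imp (congrArg Subtype.val) (congrArg Subtype.val)
  · obtain ⟨⟨a, j⟩, k⟩ := hs ⟨σ, i⟩
    exact ⟨a, j, by rw [e a j, k]⟩

theorem St.exists_pr [Finite G] [IsSimpleGroup G] (h : St z π) (h4 : 4 ≤ Fintype.card α) :
    ∃ g, g * z * g⁻¹ ∈ C1[z] ∧ g * z * g⁻¹ ≠ z := by
  by_contra! n
  have hO : pPrimeCore 2 G = ⊥ := by
    refine (inferInstance : (pPrimeCore 2 G).Normal).eq_bot_or_eq_top.resolve_right fun q => ?_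
    have := Core.not_dvd_card_pPrimeCore (G := G) 2
    rw [q, card_top, ← h.oz] at this
    exact this (orderOf_dvd_natCard _)
  have c : z ∈ center G := mem_center_iff.2 fun g => by
    have := Blk.zstar ⟨h.oz, fun g i => n g (mem_C1'.2 i)⟩ g
    rw [hO, mem_bot, mul_inv_eq_one, mul_inv_eq_iff_eq_mul] at this
    exact this.symm
  have : (zpowers z).Normal := ⟨fun a i g => by
    rwa [mem_center_iff.1 (zpowers_le.2 c i) g, mul_inv_cancel_right]⟩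
  rcases this.eq_bot_or_eq_top with q | q
  · exact ne_one_of_ord2 h.oz (zpowers_eq_bot.1 q)
  obtain ⟨x, y, x3, y3, d, -⟩ := quad (σ := (1 : Perm α)) (by simpa using h4)
  obtain ⟨a, i, e⟩ := h.sur (x * y) (by rw [map_mul, even_of_odd (by decide) x3, even_of_odd (by decide) y3, mul_one])
  have k := h.dbl a i (e ▸ d)
  obtain ⟨m, rfl⟩ : a ∈ zpowers z := q ▸ mem_top a
  rw [← (Commute.refl z).mul_zpow, sq_of_ord2 h.oz, one_zpow] at k
  exact ne_one_of_ord2 h.oz k.symm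

end Big

theorem big {G : Type*} [Group G] [Finite G] [IsSimpleGroup G] (n : ℕ) (hn : 5 ≤ n) (z : G) (hz : orderOf z = 2)
    (hcov : IsNonsplitDoubleCover (centralizer ({z} : Set G)) (alternatingGroup (Fin n))) : 8 ≤ n ∧ n ≤ 11 := by
  have h4 : 4 ≤ Fintype.card (Fin n) := by rw [Fintype.card_fin]; omega
  obtain ⟨π, h⟩ := Big.exists_st h4 hz hcov
  obtain ⟨g, a, b⟩ := h.exists_pr h4
  have p : Big.Pr z π _ _ := ⟨h, h.conj g, a, b⟩
  exact ⟨by simpa using p.ge8.trans (Finset.card_le_univ _), by simpa using p.le11⟩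

end Cfsg.Agent.MC8
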