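import Mathlib.GroupTheory.Perm.ViaEmbedding
import Cfsg.Agent.Cov.An
import Cfsg.Agent.Inv.Basic
import Cfsg.Prelude.Def_SporadicB
/-! Involution centralisers `2.Aₙ`: the permutation lemmas. -/
set_option autoImplicit false
set_option linter.unusedVariables false
set_option linter.unusedSectionVars false

namespace Cfsg.Agent.MC8.Big
open Subgroup Equiv Finset Cfsg.Agent.Inv

variable {α β : Type*} [Fintype α] [DecidableEq α] {σ τ ε f g x y u w : Perm α} {σ₀ τ₀ : Perm β} {ι : β ↪ α} {n : ℕ}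

def Dbl (δ : Perm α) : Prop := δ * δ = 1 ∧ δ.support.card = 4

theorem cyc_inv (h : σ * σ = 1) : σ.cycleType = Multiset.replicate (σ.support.card / 2) 2 ∧
    σ.support.card = 2 * σ.cycleType.card := by
  have e := Perm.cycleType_of_pow_prime_eq_one (p := 2) (σ := σ) (by rw [pow_two, h])
  have s := σ.sum_cycleType
  rw [e, Multiset.sum_replicate, smul_eq_mul] at s
  exact ⟨by rw [← s, Nat.mul_div_cancel _ (by norm_num)]; exact e, by omega⟩

theorem supp_inv (h : σ * σ = 1) (h1 : σ ≠ 1) (hs : Perm.sign σ = 1) : σ.support.card = 4 ∨ 8 ≤ σ.support.card := by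
  have e := (cyc_inv h).2
  have s := Perm.sign_of_cycleType σ
  rw [hs, σ.sum_cycleType, e] at s
  have p : σ.support.card ≠ 0 := by simpa using h1
  obtain ⟨k, hk⟩ : Even (2 * σ.cycleType.card + σ.cycleType.card) :=
    (neg_one_pow_eq_one_iff_even (by decide)).1 s.symm
  omega

theorem even_of_odd (hn : Odd n) (h : f ^ n = 1) : Perm.sign f = 1 := by
  have := congrArg Perm.sign h
  rw [map_pow, map_one] at this
  rcases Int.units_eq_one_or (Perm.sign f) with e | e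
  · exact e
  · rw [e, hn.neg_one_pow] at this; exact absurd this (by decide)

theorem cover {H : Type*} [Group H] (h4 : 4 ≤ Fintype.card α) (hH : IsNonsplitDoubleCover H (alternatingGroup α)) :
    ∃ (ψ : H →* alternatingGroup α) (z : H), Function.Surjective ψ ∧ ψ.ker = center H ∧
      (∀ a ∈ center H, a = 1 ∨ a = z) ∧ ∀ a, Dbl (ψ a : Perm α) → a * a = z := by
  obtain ⟨h1, ⟨e⟩, h3⟩ := hH
  obtain ⟨ψ, hk, hs⟩ : ∃ ψ : H →* alternatingGroup α, ψ.ker = center H ∧ Function.Surjective ψ :=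
    ⟨e.toMonoidHom.comp (QuotientGroup.mk' _), by ext x; simp, e.surjective.comp (QuotientGroup.mk'_surjective _)⟩
  obtain ⟨⟨z, zc⟩, z1, hz⟩ := (Nat.card_eq_two_iff' (1 : center H)).1 h1
  have c : ∀ a ∈ center H, a = 1 ∨ a = z := fun a i => or_iff_not_imp_left.2 fun j =>
    congrArg Subtype.val (hz ⟨a, i⟩ fun k => j (congrArg Subtype.val k))
  have z1' : z ≠ 1 := fun k => z1 (Subtype.ext k)
  have zz : z * z = 1 := (c _ (mul_mem zc zc)).resolve_right (by simpa using z1')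
  refine ⟨ψ, z, hs, hk, c, fun a ⟨p, q⟩ => ?_⟩
  obtain ⟨o, s, i, j, n1, n2, n3, n4, n5, n6⟩ := Cov.four_pts h4
  have d := Perm.disjoint_swap_swap (x := s) (y := i) (z := o) (t := j) (by simp [*, Ne.symm])
  have p' : swap s i * swap o j * (swap s i * swap o j) = 1 := by
    rw [mul_assoc, ← mul_assoc (swap o j), ← d.commute.eq, mul_assoc, swap_mul_self, mul_one, swap_mul_self]
  obtain ⟨g, hg⟩ := isConj_iff.1 (Perm.isConj_of_cycleType_eq (σ := swap s i * swap o j) (τ := ψ a) (by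
    rw [(cyc_inv p).1, (cyc_inv p').1, q, d.card_support_mul, Perm.card_support_swap n3.symm,
      Perm.card_support_swap n4.symm]))
  rw [← conj_mul, ← swap_apply_apply, ← swap_apply_apply] at hg
  have m : ∀ {i j}, i ≠ j → g i ≠ g j := fun i => g.injective.ne i
  obtain ⟨hL, -⟩ := Cov.lifts_two hs hk.le (IsPGroup.of_card (n := 1) (by rw [hk, h1, pow_one]))
  obtain ⟨u, pu, hu⟩ := hL.ex (g o) (g s) (g i) (m n1.symm) (m n2.symm) (m n3.symm)
  obtain ⟨v, pv, hv⟩ := hL.ex (g o) (g s) (g j) (m n1.symm) (m n4.symm) (m n5.symm)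
  have hw : (u * v)⁻¹ * a ∈ center H := by
    rw [← hk, MonoidHom.mem_ker, map_mul, map_inv, inv_mul_eq_one]
    exact Subtype.ext (by rw [map_mul, Subgroup.coe_mul, hu, hv, Cov.c3_mul (m n2) (m n3), hg])
  refine (c _ (hk ▸ Subtype.ext (by simpa using p))).resolve_left fun i => ?_
  have hz : u * v * u * v = 1 := by
    rw [mul_assoc (u * v), ← i]
    rcases c _ hw with j | j
    · rw [inv_mul_eq_one.1 j]
    · rw [inv_mul_eq_iff_eq_mul.1 j, mul_assoc _ z, ← mem_center_iff.1 zc, mul_assoc (u * v) z, zz, mul_one]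
  obtain ⟨χ, hχ⟩ := hL.section_of (m n1) (m n2) (m n3) (m n4) (m n5) (m n6) pu pv hu hv (MonoidHom.id H) ψ
    (fun _ => rfl) hz
  refine h3 χ.range (isComplement'_of_disjoint_and_mul_eq_univ ?_ ?_)
  · rw [Subgroup.disjoint_def]
    rintro _ h ⟨a, rfl⟩
    rw [← hk, MonoidHom.mem_ker, hχ] at h
    rw [h, map_one]
  · refine Set.eq_univ_of_forall fun y => ⟨y * (χ (ψ y))⁻¹, ?_, χ (ψ y), ⟨_, rfl⟩, by simp⟩
    rw [SetLike.mem_coe, ← hk, MonoidHom.mem_ker, map_mul, map_inv, hχ, mul_inv_cancel]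

/-- `σ` acts on the image of `ι` as `σ₀` -/
def Rp (ι : β ↪ α) (σ : Perm α) (σ₀ : Perm β) : Prop := ∀ i, σ (ι i) = ι (σ₀ i)

theorem Rp.mul (h : Rp ι σ σ₀) (h' : Rp ι τ τ₀) : Rp ι (σ * τ) (σ₀ * τ₀) := fun i => by
  rw [Perm.mul_apply, h', h, Perm.mul_apply]
theorem Rp.inv (h : Rp ι σ σ₀) : Rp ι σ⁻¹ σ₀⁻¹ := fun i => by
  rw [Perm.inv_eq_iff_eq, h]; simp

/-- the extension by the identity -/
noncomputable abbrev J (ι : β ↪ α) : Perm β →* Perm α := Perm.viaEmbeddingHom ι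

theorem rpJ (ι : β ↪ α) (v : Perm β) : Rp ι (J ι v) v := Perm.viaEmbedding_apply v ι
theorem J_out (v : Perm β) {p : α} (h : p ∉ Set.range ι) : J ι v p = p := Perm.viaEmbedding_apply_of_notMem v ι p h

theorem Rp.comm (h : Rp ι σ σ₀) (c : σ₀ * τ₀ = τ₀ * σ₀) : σ * J ι τ₀ = J ι τ₀ * σ := by
  ext p
  by_cases e : p ∈ Set.range ι
  · obtain ⟨i, rfl⟩ := e
    rw [(h.mul (rpJ ι _)) i, ((rpJ ι _).mul h) i, c]
  · rw [Perm.mul_apply, Perm.mul_apply, J_out _ e, J_out]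
    rintro ⟨i, k⟩
    exact e ⟨_, by rw [← h.inv, k]; simp⟩

theorem J_dbl [Fintype β] [DecidableEq β] (h : Dbl σ₀) : Dbl (J ι σ₀) :=
  ⟨by rw [← map_mul, h.1, map_one], by
    rw [← h.2, ← card_map ι]
    congr 1; ext p
    by_cases e : p ∈ Set.range ι
    · obtain ⟨i, rfl⟩ := e
      simp [rpJ ι σ₀ i]
    · simpa [J_out _ e] using fun i _ k => e ⟨i, k⟩⟩

theorem emb {d k : ℕ} [NeZero d] (hd : ε ^ d = 1) (S : Finset α)
    (hS : ∀ p ∈ S, ∀ j, 0 < j → j < d → (ε ^ j) p ≠ p) (hk : d * k < S.card) :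
    ∃ ι : Fin (k + 1) × Fin d ↪ α, Rp ι ε (prodCongr 1 (Equiv.addRight 1)) ∧ ∀ i, ι (i, 0) ∈ S := by
  classical
  let F : α → Quotient (Perm.SameCycle.setoid ε) := Quotient.mk _
  have := card_le_mul_card_image (f := F) S d fun b hb => by
    obtain ⟨b, -, rfl⟩ := mem_image.1 hb
    refine (card_le_card (t := (range d).image fun j => (ε ^ j) b) fun a ha => ?_).trans
      (card_image_le.trans (card_range d).le)
    obtain ⟨i, h1, h2⟩ := Perm.SameCycle.exists_pow_eq' (Quotient.exact (mem_filter.1 ha).2.symm)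
    exact mem_image.2 ⟨i, mem_range.2 (h1.trans_le (orderOf_le_of_pow_eq_one (NeZero.pos d) hd)), h2⟩
  obtain ⟨q, hq⟩ := Function.Embedding.exists_of_card_le_finset (α := Fin (k + 1)) (s := S.image F)
    (by rw [Fintype.card_fin]; exact Nat.lt_of_mul_lt_mul_left (hk.trans_le this))
  choose p p1 p2 using fun i => mem_image.1 (hq ⟨i, rfl⟩)
  refine ⟨⟨fun a => (ε ^ (a.2 : ℕ)) (p a.1), fun ⟨i, j⟩ ⟨i', j'⟩ e => ?_⟩, fun ⟨i, j⟩ => ?_, fun i => p1 i⟩
  · replace e : (ε ^ (j : ℕ)) (p i) = (ε ^ (j' : ℕ)) (p i') := e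
    obtain rfl : i = i' := q.injective (by
      rw [← p2, ← p2]
      exact Quotient.sound ((Perm.sameCycle_pow_right (n := j)).1 (e ▸ Perm.sameCycle_pow_right.2 .rfl)).symm)
    wlog l : j ≤ j' generalizing j j'
    · exact (this j' j e.symm (le_of_not_ge l)).symm
    obtain ⟨c, hc⟩ := Nat.exists_eq_add_of_le (Fin.le_def.1 l)
    simp only [hc, pow_add, Perm.mul_apply, EmbeddingLike.apply_eq_iff_eq] at e
    obtain rfl : c = 0 := by
      by_contra c0
      exact hS _ (p1 i) c (Nat.pos_of_ne_zero c0) (by have := j'.2; omega) e.symm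
    exact Prod.ext rfl (Fin.ext hc.symm)
  · show ε ((ε ^ (j : ℕ)) (p i)) = (ε ^ ((j + 1 : Fin d) : ℕ)) (p i)
    rw [Fin.val_add, Fin.val_one', Nat.add_mod_mod, ← pow_eq_pow_mod _ hd, pow_succ', Perm.mul_apply]

theorem fx (c : u * w = w * u) (p : α) : u (w p) = w p ↔ u p = p := by
  rw [← Perm.mul_apply, c, Perm.mul_apply, w.apply_eq_iff_eq]

theorem dvd_card {p : ℕ} (hp : p.Prime) (hu : u ^ p = 1) (P : α → Prop) [DecidablePred P] (h : ∀ x, P (u x) ↔ P x)
    (h2 : ∀ x, P x → u x ≠ x) : p ∣ (univ.filter P).card := by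
  have := Fact.mk hp
  have := Perm.card_compl_support_modEq (p := p) (n := 1) (σ := u.subtypePerm h)
    (by rw [pow_one, Perm.subtypePerm_pow]; ext; simp [hu])
  rw [(eq_univ_of_forall fun x => Perm.mem_support.2 fun e => h2 _ x.2 (congrArg Subtype.val e) :
    (u.subtypePerm h).support = univ), compl_univ, card_empty, Fintype.card_subtype] at this
  exact (Nat.modEq_zero_iff_dvd.1 this.symm)

theorem fix8 (h : τ * τ = 1) (h8 : τ.support.card = 8) (hu : u ^ 3 = 1) (c : τ * u = u * τ) :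
    (univ.filter fun p => τ p ≠ p ∧ u p = p).card = 2 ∨ ∀ p, τ p ≠ p → u p = p := by
  have a := dvd_card Nat.prime_three hu (fun p => τ p ≠ p ∧ u p ≠ p) (fun p => by simp [fx c]) fun _ h => h.2
  have b := dvd_card Nat.prime_two (pow_two τ ▸ h) (fun p => τ p ≠ p ∧ u p ≠ p) (fun p => by simp [fx c.symm])
    fun _ h => h.1
  have e := card_filter_add_card_filter_not (s := τ.support) fun p => u p = p
  rw [h8, Perm.support, filter_filter, filter_filter] at e
  refine or_iff_not_imp_left.2 fun k p hp => by_contra fun l => ?_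
  have := card_pos.2 ⟨p, (mem_filter (s := univ) (p := fun p => τ p ≠ p ∧ u p ≠ p)).2 ⟨mem_univ _, hp, l⟩⟩
  simp only [ne_eq] at *
  omega

theorem fix1 (h : τ * τ = 1) (h8 : τ.support.card = 8) (hu : u ^ 3 = 1) (c : τ * u = u * τ) :
    ∃ p, τ p ≠ p ∧ u p = p := by
  rcases fix8 h h8 hu c with e | e
  · obtain ⟨p, hp⟩ := card_pos.1 (e ▸ two_pos)
    exact ⟨p, (mem_filter.1 hp).2⟩
  · obtain ⟨p, hp⟩ := card_pos.1 (h8 ▸ (by decide : 0 < 8))
    exact ⟨p, Perm.mem_support.1 hp, e p (Perm.mem_support.1 hp)⟩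

theorem nofix (e : x * y * (x * y) = τ) {p : α} (h : τ p ≠ p) (h1 : x p = p) (h2 : y p = p) : False :=
  h (by rw [← e]; simp [h1, h2])

theorem four (h : τ * τ = 1) (h8 : τ.support.card = 8) (hx : x ^ 3 = 1) (hy : y ^ 3 = 1) (hf : f ^ 3 = 1)
    (hg : g ^ 3 = 1) (c1 : τ * x = x * τ) (c2 : τ * y = y * τ) (c3 : τ * f = f * τ) (c4 : τ * g = g * τ)
    (e1 : x * y * (x * y) = τ) (e2 : g * f * (g * f) = τ) (c5 : x * f = f * x) (c6 : y * f = f * y) : False := by
  have k : ∀ {x : Perm α}, (univ.filter fun p => τ p ≠ p ∧ x p = p).card = 2 → x * f = f * x →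
      (univ.filter fun p => τ p ≠ p ∧ x p = p) ⊆ univ.filter fun p => τ p ≠ p ∧ f p = p := fun {x} a c p hp => by
    have d := dvd_card Nat.prime_three hf (fun p => (τ p ≠ p ∧ x p = p) ∧ f p ≠ p) (fun p => by simp [fx c, fx c3])
      fun _ h => h.2
    have l := card_filter_le (univ.filter fun p => τ p ≠ p ∧ x p = p) fun p => f p ≠ p
    rw [filter_filter, a] at l
    refine mem_filter.2 ⟨mem_univ _, (mem_filter.1 hp).2.1, by_contra fun n => ?_⟩
    have := card_pos.2 ⟨p, (mem_filter (s := univ) (p := fun p => (τ p ≠ p ∧ x p = p) ∧ f p ≠ p)).2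
      ⟨mem_univ _, (mem_filter.1 hp).2, n⟩⟩
    omega
  obtain ⟨p, p1, p2⟩ := fix1 h h8 hx c1
  obtain ⟨q, q1, q2⟩ := fix1 h h8 hy c2
  obtain ⟨r, r1, r2⟩ := fix1 h h8 hg c4
  have a := (fix8 h h8 hx c1).resolve_right fun e => nofix e1 q1 (e q q1) q2
  have b := (fix8 h h8 hy c2).resolve_right fun e => nofix e1 p1 p2 (e p p1)
  have l := card_le_card (union_subset (k a c5) (k b c6))
  rw [card_union_of_disjoint (disjoint_left.2 fun s s1 s2 => nofix e1 (mem_filter.1 s1).2.1 (mem_filter.1 s1).2.2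
    (mem_filter.1 s2).2.2), a, b, (fix8 h h8 hf c3).resolve_right fun e => nofix e2 r1 r2 (e r r1)] at l
  omega

/-- `u` lies in the base group of the centraliser of `σ` -/
def Base (σ u : Perm α) : Prop := σ * u = u * σ ∧ ∀ p, u p = p ∨ u p = σ p

theorem Base.conj (h : Base σ u) (c : σ * w = w * σ) : Base σ (w * u * w⁻¹) :=
  ⟨((show Commute σ w from c).mul_right h.1).mul_right (Commute.inv_right c), fun p => (h.2 (w⁻¹ p)).imp
    (fun e => by rw [Perm.mul_apply, Perm.mul_apply, e]; simp) fun e => by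
      rw [Perm.mul_apply, Perm.mul_apply, e, ← Perm.mul_apply, ← c, Perm.mul_apply]; simp⟩

theorem Base.comm (h : Base σ u) (h' : Base σ w) : u * w = w * u := by
  ext p
  have a : u (σ p) = σ (u p) := by rw [← Perm.mul_apply, ← h.1, Perm.mul_apply]
  have b : w (σ p) = σ (w p) := by rw [← Perm.mul_apply, ← h'.1, Perm.mul_apply]
  rcases h.2 p with e | e <;> rcases h'.2 p with e' | e' <;> simp [e, e', a, b]

abbrev sh (k d : ℕ) [NeZero d] : Perm (Fin k × Fin d) := prodCongr 1 (Equiv.addRight 1)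

theorem tri (h : σ * σ = 1) (h8 : 8 ≤ σ.support.card) : ∃ f g : Perm α, f ^ 3 = 1 ∧ g ^ 3 = 1 ∧ σ * f = f * σ ∧
    σ * g = g * σ ∧ Dbl (g * f) ∧ Base σ (g * f) ∧ ∀ p, σ p = p → f p = p := by
  obtain ⟨ι, r, -⟩ := emb (d := 2) (k := 2) (pow_two σ ▸ h) σ.support (fun p hp j a b => by
    obtain rfl : j = 1 := by omega
    exact Perm.mem_support.1 hp) (by omega)
  let f₀ : Perm (Fin 3 × Fin 2) := prodCongr (Equiv.addRight 1) 1
  let k₀ : Perm (Fin 3 × Fin 2) := swap (0, 0) (0, 1) * swap (1, 0) (1, 1)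
  have e : J ι (k₀ * f₀⁻¹) * J ι f₀ = J ι k₀ := by rw [← map_mul, inv_mul_cancel_right]
  refine ⟨J ι f₀, J ι (k₀ * f₀⁻¹), by rw [← map_pow, show f₀ ^ 3 = 1 by decide +kernel, map_one],
    by rw [← map_pow, show (k₀ * f₀⁻¹) ^ 3 = 1 by decide +kernel, map_one], r.comm (by decide +kernel),
    r.comm (by decide +kernel), e ▸ J_dbl ⟨by decide +kernel, by decide +kernel⟩, e ▸ ⟨r.comm (by decide +kernel),
    fun p => ?_⟩, fun p hp => J_out _ ?_⟩
  · by_cases a : p ∈ Set.range ι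
    · obtain ⟨i, rfl⟩ := a
      rw [rpJ, r, ι.apply_eq_iff_eq, ι.apply_eq_iff_eq]
      revert i; decide +kernel
    · exact .inl (J_out _ a)
  · rintro ⟨i, rfl⟩
    rw [r, ι.apply_eq_iff_eq] at hp
    revert i; decide +kernel

theorem quad (h4 : σ.support.card + 4 ≤ Fintype.card α) : ∃ x y : Perm α, x ^ 3 = 1 ∧ y ^ 3 = 1 ∧ Dbl (x * y) ∧
    ∀ f : Perm α, (∀ p, σ p = p → f p = p) → f * x = x * f ∧ f * y = y * f := by
  obtain ⟨ι, r⟩ := Function.Embedding.exists_of_card_le_finset (α := Fin 4) (s := σ.supportᶜ)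
    (by rw [card_compl, Fintype.card_fin]; omega)
  refine ⟨J ι (swap 0 1 * swap 0 2), J ι (swap 0 1 * swap 0 3),
    by rw [← map_pow, show (swap 0 1 * swap 0 2 : Perm (Fin 4)) ^ 3 = 1 by decide +kernel, map_one],
    by rw [← map_pow, show (swap 0 1 * swap 0 3 : Perm (Fin 4)) ^ 3 = 1 by decide +kernel, map_one],
    map_mul (J ι) _ _ ▸ J_dbl ⟨by decide +kernel, by decide +kernel⟩, fun f hf => ?_⟩
  have : Rp ι f 1 := fun i => hf _ (by simpa using r ⟨i, rfl⟩)
  exact ⟨this.comm (by simp), this.comm (by simp)⟩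

theorem big (h : τ * τ = 1) (e : ε * ε = τ) (h8 : 8 < τ.support.card) : ∃ δ : Perm α, δ ^ 3 = 1 ∧ τ * δ = δ * τ ∧
    δ * ε * δ⁻¹ * ε ≠ ε * (δ * ε * δ⁻¹) ∧ δ * ε * δ⁻¹ * ε ≠ ε * (δ * ε * δ⁻¹) * τ := by
  have e4 : ε ^ 4 = 1 := by rw [show 4 = 2 * 2 from rfl, pow_mul, pow_two, pow_two, e, h]
  obtain ⟨ι, r, -⟩ := emb (d := 4) (k := 2) e4 τ.support (fun p hp j a b c => Perm.mem_support.1 hp (by
    have : (ε ^ (j * (4 - j + 1))) p = p := by rw [pow_mul]; exact Perm.pow_apply_eq_self_of_apply_eq_self c _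
    have k : (ε ^ (j * 2)) p = p := by rw [pow_mul]; exact Perm.pow_apply_eq_self_of_apply_eq_self c _
    rw [← e, ← pow_two]
    obtain rfl | rfl | rfl : j = 1 ∨ j = 2 ∨ j = 3 := by omega
    exacts [k, c, by rwa [pow_eq_pow_mod _ e4] at k])) h8
  let d₀ : Perm (Fin 3 × Fin 4) := swap (0, 0) (1, 0) * swap (0, 0) (2, 0) * (swap (0, 2) (1, 2) * swap (0, 2) (2, 2))
  have r2 := e ▸ r.mul r
  have r3 := ((rpJ ι d₀).mul r).mul (rpJ ι d₀).inv
  refine ⟨J ι d₀, by rw [← map_pow, show d₀ ^ 3 = 1 by decide +kernel, map_one], r2.comm (by decide +kernel),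
    fun c => ?_, fun c => ?_⟩
  · exact absurd (ι.injective (((r3.mul r) (0, 0)).symm.trans (c ▸ (r.mul r3) (0, 0)))) (by decide +kernel)
  · exact absurd (ι.injective (((r3.mul r) (0, 0)).symm.trans (c ▸ ((r.mul r3).mul r2) (0, 0)))) (by decide +kernel)

end Cfsg.Agent.MC8.Big
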