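import Cfsg.Agent.MC8.BigP
/-! Uniqueness of the non-split double cover of an alternating group. -/
set_option autoImplicit false
set_option linter.unusedVariables false

namespace Cfsg.Agent.MC8
open Subgroup Equiv

variable {α H H' : Type*} [Fintype α] [DecidableEq α] [Group H] [Group H']

/-- a double cover in which two given three-cycles generate `SL₂(3)` -/
structure DCov (π : H →* alternatingGroup α) (z : H) (o s i j : α) : Prop where
  sur : Function.Surjective π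
  ker : ∀ h, π h = 1 ↔ h = 1 ∨ h = z
  cen : ∀ h, h * z = z * h
  zz : z * z = 1
  ne : z ≠ 1
  ex : ∃ x y : H, x * x * x = 1 ∧ y * y * y = 1 ∧ (π x : Perm α) = swap o s * swap o i ∧
    (π y : Perm α) = swap o s * swap o j ∧ x * y * x * y = z

theorem DCov.eq {π : H →* alternatingGroup α} {z : H} {o s i j : α} (h : DCov π z o s i j) {a b : H} (e : π a = π b) :
    b = a ∨ b = a * z :=
  ((h.ker (a⁻¹ * b)).1 (by rw [map_mul, map_inv, e, inv_mul_cancel])).imp (fun i => (inv_mul_eq_one.1 i).symm)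
    fun i => by rw [← i, mul_inv_cancel_left]

theorem DCov.graph {π : H →* alternatingGroup α} {π' : H' →* alternatingGroup α} {z : H} {z' : H'} {o s i j : α}
    (hs : s ≠ o) (h1 : i ≠ o) (h2 : i ≠ s) (h3 : j ≠ o) (h4 : j ≠ s) (h5 : i ≠ j)
    (h : DCov π z o s i j) (h' : DCov π' z' o s i j) : ∃ D : Subgroup (H × H'), (z, z') ∈ D ∧
      (∀ p ∈ D, π p.1 = π' p.2) ∧ (∀ a, ∃ p ∈ D, π p.1 = a) ∧ ∀ p ∈ D, π p.1 = 1 → p = 1 ∨ p = (z, z') := by
  let P : Subgroup (H × H') := (π.comp (MonoidHom.fst H H')).eqLocus (π'.comp (MonoidHom.snd H H'))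
  let ρ : P →* alternatingGroup α := (π.comp (MonoidHom.fst H H')).comp P.subtype
  have pz : π z = 1 := (h.ker z).2 (.inr rfl)
  have pz' : π' z' = 1 := (h'.ker z').2 (.inr rfl)
  have kr : ∀ p : P, ρ p = 1 → (p.1.1 = 1 ∨ p.1.1 = z) ∧ (p.1.2 = 1 ∨ p.1.2 = z') := fun p e =>
    ⟨(h.ker _).1 e, (h'.ker _).1 (p.2.symm.trans e)⟩
  have cn : ρ.ker ≤ center P := fun p e => mem_center_iff.2 fun q => Subtype.ext (Prod.ext
    (by rcases (kr p e).1 with a | a <;> simp [a, h.cen]) (by rcases (kr p e).2 with a | a <;> simp [a, h'.cen]))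
  obtain ⟨L, -⟩ := Cov.lifts_two (π := ρ) (fun a => by
    obtain ⟨x, rfl⟩ := h.sur a
    obtain ⟨y, e⟩ := h'.sur (π x)
    exact ⟨⟨(x, y), e.symm⟩, rfl⟩) cn fun p => ⟨1, Subtype.ext (Subtype.ext (Prod.ext
      (by rcases (kr p.1 p.2).1 with a | a <;> simp [a, pow_two, h.zz])
      (by rcases (kr p.1 p.2).2 with a | a <;> simp [a, pow_two, h'.zz])))⟩
  obtain ⟨x, y, x3, y3, ex, ey, e⟩ := h.ex
  obtain ⟨x', y', x3', y3', ex', ey', e'⟩ := h'.ex
  let w : P := ⟨(z, z'), pz.trans pz'.symm⟩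
  have wk : zpowers w ≤ ρ.ker := zpowers_le.2 pz
  haveI : (zpowers w).Normal := ⟨fun a i g => by rwa [mem_center_iff.1 (cn (wk i)) g, mul_inv_cancel_right]⟩
  have mw : ∀ p ∈ zpowers w, p.1 = 1 ∨ p.1 = (z, z') := fun p i => by
    have o : w * w = 1 := Subtype.ext (Prod.ext h.zz h'.zz)
    obtain ⟨k, rfl⟩ := i
    have q : w ^ (2 : ℤ) = 1 := by rw [zpow_two, o]
    rcases Int.even_or_odd' k with ⟨m, rfl | rfl⟩ <;> simp [zpow_add, zpow_mul, q, w]
  obtain ⟨ψ, hψ⟩ := L.section_of hs h1 h2 h3 h4 h5 (x := ⟨(x, x'), Subtype.ext (ex.trans ex'.symm)⟩)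
    (y := ⟨(y, y'), Subtype.ext (ey.trans ey'.symm)⟩) (Subtype.ext (Prod.ext x3 x3')) (Subtype.ext (Prod.ext y3 y3'))
    ex ey (QuotientGroup.mk' (zpowers w)) (QuotientGroup.lift _ ρ wk) (fun _ => rfl)
    ((QuotientGroup.eq_one_iff _).2 (by convert mem_zpowers w; exact Subtype.ext (Prod.ext e e')))
  refine ⟨(ψ.range.comap (QuotientGroup.mk' (zpowers w))).map P.subtype, ⟨w, ⟨1, ?_⟩, rfl⟩, ?_, fun a => ?_, ?_⟩
  · rw [map_one]; exact ((QuotientGroup.eq_one_iff _).2 (mem_zpowers w)).symm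
  · rintro _ ⟨p, -, rfl⟩; exact p.2
  · obtain ⟨p, k⟩ := QuotientGroup.mk'_surjective (zpowers w) (ψ a)
    exact ⟨p, ⟨p, ⟨a, k.symm⟩, rfl⟩, by rw [← hψ a, ← k]; rfl⟩
  · rintro _ ⟨p, ⟨a, k⟩, rfl⟩ l
    have : a = 1 := by rw [← hψ a, k]; exact l
    rw [this, map_one] at k
    exact mw p ((QuotientGroup.eq_one_iff _).1 k.symm)

theorem DCov.uniq {π : H →* alternatingGroup α} {π' : H' →* alternatingGroup α} {z : H} {z' : H'} {o s i j : α}
    (hs : s ≠ o) (h1 : i ≠ o) (h2 : i ≠ s) (h3 : j ≠ o) (h4 : j ≠ s) (h5 : i ≠ j)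
    (h : DCov π z o s i j) (h' : DCov π' z' o s i j) : ∃ e : H →* H', Function.Bijective e ∧ e z = z' ∧
      ∀ a, π' (e a) = π a := by
  obtain ⟨D, m, c, su, k⟩ := h.graph hs h1 h2 h3 h4 h5 h'
  let f : D →* H := (MonoidHom.fst H H').comp D.subtype
  let g : D →* H' := (MonoidHom.snd H H').comp D.subtype
  have bf : Function.Bijective f := ⟨(injective_iff_map_eq_one f).2 fun p e => by
    have e : p.1.1 = 1 := e
    exact Subtype.ext ((k p.1 p.2 (by rw [e, map_one])).resolve_right fun l => h.ne (by rw [← e, l])), fun a => by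
    obtain ⟨p, l, e⟩ := su (π a)
    rcases h.eq e with rfl | rfl
    exacts [⟨⟨p, l⟩, rfl⟩, ⟨⟨_, mul_mem l m⟩, rfl⟩]⟩
  have bg : Function.Bijective g := ⟨(injective_iff_map_eq_one g).2 fun p e => by
    have e : p.1.2 = 1 := e
    exact Subtype.ext ((k p.1 p.2 (by rw [c p.1 p.2, e, map_one])).resolve_right fun l => h'.ne (by rw [← e, l])),
      fun a => by
    obtain ⟨p, l, e⟩ := su (π' a)
    rcases h'.eq ((c p l).symm.trans e) with rfl | rfl
    exacts [⟨⟨p, l⟩, rfl⟩, ⟨⟨_, mul_mem l m⟩, rfl⟩]⟩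
  let E := MulEquiv.ofBijective f bf
  refine ⟨g.comp E.symm.toMonoidHom, bg.comp E.symm.bijective, ?_, fun a => ?_⟩
  · rw [show z = E ⟨_, m⟩ from rfl]; simp [g]
  · obtain ⟨p, rfl⟩ := E.surjective a
    simpa [g] using (show π' p.1.2 = π (E p) from (c p.1 p.2).symm)

end Cfsg.Agent.MC8
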