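import Cfsg.Agent.MC8.SS
import Cfsg.Agent.MC8.Uniq

/-! # The centraliser `2.A_n` is the subgroup `SS n` of the model -/

set_option autoImplicit false
set_option linter.unusedVariables false

namespace Cfsg.Agent.MC8
open Subgroup Equiv Cfsg.Agent.Spor Cfsg.Agent.H8Ly

/-- the first `n` points -/
def eF {n : ℕ} (h : n ≤ 11) : Fin n ≃ {v : Fin 11 // v.1 < n} :=
  ⟨fun i => ⟨⟨i, i.2.trans_le h⟩, i.2⟩, fun v => ⟨v.1, v.2⟩, fun _ => rfl, fun _ => rfl⟩

theorem exists_res {n : ℕ} (h : n ≤ 11) : ∃ r : SS n →* alternatingGroup (Fin n), Function.Surjective r ∧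
    ∀ z, (r z : Perm (Fin n)).extendDomain (eF h) = π z := by
  have inj := Perm.extendDomainHom_injective (eF h)
  have m : ∀ z : SS n, π z ∈ (Perm.extendDomainHom (eF h)).range := fun z => by
    have a : ∀ v : Fin 11, (π z v).1 < n ↔ v.1 < n := fun v => by
      refine ⟨fun i => by_contra fun j => j (z.2 v (not_lt.1 j) ▸ i), fun i => by_contra fun j => ?_⟩
      exact j (((π z).injective (z.2 _ (not_lt.1 j))).symm ▸ i)
    refine ⟨(eF h).symm.permCongr ((π z).subtypePerm a), Equiv.ext fun v => ?_⟩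
    rw [Perm.extendDomainHom_apply]
    by_cases i : v.1 < n
    · rw [Perm.extendDomain_apply_subtype _ (eF h) (b := v) i]; simp
    · rw [Perm.extendDomain_apply_not_subtype _ (eF h) (b := v) i, z.2 v (not_lt.1 i)]
  let r := (MonoidHom.ofInjective inj).symm.toMonoidHom.comp ((π.comp (SS n).subtype).codRestrict _ m)
  have e : ∀ z, (r z).extendDomain (eF h) = π z := fun z => MonoidHom.apply_ofInjective_symm inj ⟨π z, m z⟩
  refine ⟨r.codRestrict _ fun z => ?_, fun σ => ?_, e⟩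
  · rw [Perm.mem_alternatingGroup, ← Perm.sign_extendDomain _ (eF h), e, π_sign]
  · obtain ⟨z, hz⟩ := π_surj (σ := σ.1.extendDomain (eF h)) (by rw [Perm.sign_extendDomain]; exact σ.2)
    refine ⟨⟨z, fun v i => by rw [hz, Perm.extendDomain_apply_not_subtype _ (eF h) (b := v) (not_lt.2 i)]⟩, Subtype.ext (inj ?_)⟩
    exact (e _).trans hz

theorem ext_swap {n : ℕ} (h : n ≤ 11) (a b : Fin n) :
    (swap a b).extendDomain (eF h) = swap (eF h a).1 (eF h b).1 := by
  have := Perm.ofSubtype_swap_eq (eF h a) (eF h b)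
  rw [← this, ← symm_trans_swap_trans]
  rfl

theorem exists_emb {G : Type} [Group G] {n : ℕ} (h5 : 8 ≤ n) (h11 : n ≤ 11) {t : G} (ht : orderOf t = 2)
    (hcov : IsNonsplitDoubleCover (centralizer ({t} : Set G)) (alternatingGroup (Fin n))) :
    ∃ (ψ : SS n →* centralizer ({t} : Set G)) (p : centralizer ({t} : Set G) →* Perm (Fin n)),
      Function.Bijective ψ ∧ (ψ ⟨kt, kt_mem n⟩ : G) = t ∧ (∀ c, p c = 1 ↔ (c : G) = 1 ∨ (c : G) = t) ∧
      p.range = alternatingGroup (Fin n) ∧ ∀ z : SS n, (p (ψ z)).cycleType = (π z).cycleType := by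
  obtain ⟨r, rs, hr⟩ := exists_res h11
  have inj := Perm.extendDomainHom_injective (eF h11)
  obtain ⟨o, s, i, j, ho, hs, hi, hj⟩ : ∃ o s i j : Fin n, (eF h11 o).1 = 2 ∧ (eF h11 s).1 = 3 ∧ (eF h11 i).1 = 0 ∧
      (eF h11 j).1 = 1 := ⟨⟨2, by omega⟩, ⟨3, by omega⟩, ⟨0, by omega⟩, ⟨1, by omega⟩, rfl, rfl, rfl, rfl⟩
  have ne : ∀ {a b : Fin n} {x y : Fin 11}, (eF h11 a).1 = x → (eF h11 b).1 = y → x ≠ y → a ≠ b :=
    fun k l m q => m (by rw [← k, ← l, q])
  have so := ne hs ho (by decide)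
  have io := ne hi ho (by decide)
  have is := ne hi hs (by decide)
  have jo := ne hj ho (by decide)
  have js := ne hj hs (by decide)
  have ij := ne hi hj (by decide)
  have d1 : DCov r ⟨kt, kt_mem n⟩ o s i j := by
    refine ⟨rs, fun z => ⟨fun e => (π_ker z (by rw [← hr, e]; simp)).imp Subtype.ext Subtype.ext, fun e =>
      Subtype.ext (inj ?_)⟩, fun z => Subtype.ext (t_comm z), Subtype.ext carmξ.zz, fun e => ?_, ?_⟩
    · rw [Perm.extendDomainHom_apply, hr]
      rcases e with rfl | rfl <;> simp [π_t]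
    · exact k_t_ne (congrArg Subtype.val e)
    obtain ⟨g, hg⟩ := π_surj (σ := swap 10 2 * swap 9 3) (by decide)
    have a : π (g * ξ 0 * g⁻¹) = swap 2 3 * swap 2 0 := by
      rw [map_mul, map_mul, map_inv, hg, π_ξ 0 (by omega)]; decide +kernel
    have b : π (g * ξ 1 * g⁻¹) = swap 2 3 * swap 2 1 := by
      rw [map_mul, map_mul, map_inv, hg, π_ξ 1 (by omega)]; decide +kernel
    have f : ∀ v : Fin 11, 8 ≤ v.1 → (swap 2 3 * swap 2 0 : P11) v = v ∧ (swap 2 3 * swap 2 1 : P11) v = v := by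
      decide +kernel
    refine ⟨⟨_, fun v k => by rw [a, (f v (h5.trans k)).1]⟩, ⟨_, fun v k => by rw [b, (f v (h5.trans k)).2]⟩,
      Subtype.ext ?_, Subtype.ext ?_, inj ?_, inj ?_, Subtype.ext ?_⟩
    · simp [carmξ.cube 0 (by omega)]
    · simp [carmξ.cube 1 (by omega)]
    · rw [Perm.extendDomainHom_apply, hr, a, map_mul]; simp only [Perm.extendDomainHom_apply, ext_swap, ho, hs, hi]
    · rw [Perm.extendDomainHom_apply, hr, b, map_mul]; simp only [Perm.extendDomainHom_apply, ext_swap, ho, hs, hj]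
    · simp [← tX, t_comm]
  obtain ⟨p, z, ps, pk, pc, pd⟩ := Big.cover (by simp; omega) hcov
  let t' : centralizer ({t} : Set G) := ⟨t, mem_centralizer_singleton_iff.2 rfl⟩
  have t1 : t' ≠ 1 := fun q => by
    have : t = 1 := congrArg Subtype.val q
    rw [this, orderOf_one] at ht; omega
  have tc : t' ∈ center _ := mem_center_iff.2 fun g => Subtype.ext (mem_centralizer_singleton_iff.1 g.2)
  obtain rfl : t' = z := (pc _ tc).resolve_left t1
  have k : ∀ c, p c = 1 ↔ c = 1 ∨ c = t' := fun c => by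
    rw [← MonoidHom.mem_ker, pk]
    exact ⟨pc c, fun e => by rcases e with rfl | rfl; exacts [one_mem _, tc]⟩
  have d2 : DCov p t' o s i j := by
    obtain ⟨L, -⟩ := Cov.lifts_two ps pk.le (IsPGroup.of_card (n := 1) (by rw [pk, hcov.1]; rfl))
    obtain ⟨x, x3, ex⟩ := L.ex o s i so.symm io.symm is.symm
    obtain ⟨y, y3, ey⟩ := L.ex o s j so.symm jo.symm js.symm
    refine ⟨ps, k, mem_center_iff.1 tc, Subtype.ext (by have := pow_orderOf_eq_one t; rwa [ht, pow_two] at this), t1,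
      x, y, x3, y3, ex, ey, (mul_assoc _ _ _).trans (pd _ ?_)⟩
    rw [map_mul, coe_mul, ex, ey, Cov.c3_mul io is]
    constructor
    · apply inj; simp only [map_mul, map_one, Perm.extendDomainHom_apply, ext_swap, ho, hs, hi, hj]; decide +kernel
    · rw [← Perm.card_support_extend_domain (eF h11), ← Perm.extendDomain_mul]
      simp only [ext_swap, ho, hs, hi, hj]; decide +kernel
  obtain ⟨ψ, b, e, c⟩ := d1.uniq so io is jo js ij d2
  refine ⟨ψ, (alternatingGroup _).subtype.comp p, b, congrArg Subtype.val e, fun a => ?_, ?_, fun a => ?_⟩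
  · simp only [MonoidHom.comp_apply, coe_subtype, OneMemClass.coe_eq_one, k]
    exact or_congr Iff.rfl Subtype.ext_iff
  · rw [← MonoidHom.map_range, MonoidHom.range_eq_top.2 ps, ← MonoidHom.range_eq_map, range_subtype]
  · rw [← hr, Perm.cycleType_extendDomain]; simp [c]

end Cfsg.Agent.MC8
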