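import Cfsg.Agent.Spor.McB.Grp
import Cfsg.Agent.Stn.McL2

set_option autoImplicit false

namespace Cfsg.Agent.MC8

open Cfsg.Agent.Spor Cfsg.Agent.Stn MulAction

theorem isoP0 : Nonempty (McB.P ≃* Mc0) := by
  classical
  set H := wsub 7 McB.p McB.BW
  have act : CosetAct H McB.P.subtype 275 := McB.cert.self
  have e : H.map McB.P.subtype = McB.S.U.lsub McB.S.W2 := (map_wsub_lift _ _).trans McB.S.eH
  obtain ⟨b, hb⟩ := act.exists_orbit e (by norm_num) McB.S.orb9
  obtain ⟨c, hc⟩ := act.exists_orbit e (by norm_num) McB.S.orb16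
  letI : Fintype (McB.P ⧸ H) := Fintype.ofFinite _
  have hΩ : Fintype.card (McB.P ⧸ H) = 275 := by
    rw [← Nat.card_eq_fintype_card]; exact act.index
  have hs : stabilizer McB.P ((1 : McB.P) : McB.P ⧸ H) = H := stabilizer_quotient H
  have ho : ∀ q : McB.P ⧸ H, orbit (stabilizer McB.P ((1 : McB.P) : McB.P ⧸ H)) q = orbit H q :=
    fun q => congrArg (fun A : Subgroup McB.P => orbit A q) hs
  rw [← ho] at hb hc
  obtain ⟨Γ, inv, h1, h2⟩ := exists_orbital (K := McB.P) _ b c (by norm_num) (by norm_num) hΩ hb hc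
  obtain ⟨l, m, h⟩ := srg_of_rank3 inv ((1 : McB.P) : McB.P ⧸ H) b c
    (fun y hy => by obtain ⟨g, hg⟩ := (h1 y).1 hy; exact ⟨g, g.2, hg⟩)
    (fun y hy hy' => by obtain ⟨g, hg⟩ := h2 y hy hy'; exact ⟨g, g.2, hg⟩)
  rw [hΩ, show {y | Γ.Adj _ y} = orbit (stabilizer McB.P ((1 : McB.P) : McB.P ⧸ H)) b from
    Set.ext h1, hb] at h
  have h := par275 h
  obtain ⟨f, hf⟩ := exists_mc_emb h
  have cA := card_aut275 h
  have : Finite (Γ ≃g Γ) := Finite.of_injective _ RelIso.toEquiv_injective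
  have cG := McB.cardP
  have hi : Function.Injective (toAut inv) := by
    rw [injective_iff_map_eq_one]
    intro g hg
    have : g ∈ H.normalCore := by
      rw [Subgroup.normalCore_eq_ker]
      exact Equiv.ext fun x => congrArg (fun φ : Γ ≃g Γ => φ x) hg
    rwa [McB.coreP, Subgroup.mem_bot] at this
  have := isMc0.1
  have cH : Nat.card Mc0 = 898128000 := isMc0.2
  exact iso_of_le_two hi hf (by omega) (by omega) (by omega)

theorem simpleP : IsSimpleGroup McB.P := by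
  obtain ⟨e⟩ := isoP0
  have := isMc0.1
  exact e.isSimpleGroup

theorem isoP : Cfsg.Spor.IsoMcL McB.P := by
  obtain ⟨φ⟩ := isoP0
  obtain ⟨ψ⟩ := McL_iso
  exact ⟨φ.trans ψ⟩

theorem homP {G : Type} [Group G] {f : ℕ → G} (h : Pres 7 6 McB.RL f) (hne : f 0 ≠ 1) :
    ∃ ψ : McB.P →* G, Function.Injective ψ ∧ ∀ j < 7, ψ (McB.p j) = f j := by
  obtain ⟨ψ, hψ⟩ := McB.bound.exists_hom (by norm_num) McB.cert.pres h McB.lbP
  refine ⟨ψ, ?_, hψ⟩
  have := simpleP
  rw [← MonoidHom.ker_eq_bot_iff]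
  refine (IsSimpleGroup.eq_bot_or_eq_top_of_normal ψ.ker inferInstance).resolve_right fun e => hne ?_
  rw [← hψ 0 (by norm_num)]
  exact (e ▸ Subgroup.mem_top _ : McB.p 0 ∈ ψ.ker)

end Cfsg.Agent.MC8
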