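import Mathlib.GroupTheory.SpecificGroups.Alternating.Simple
import Cfsg.Agent.MC8.BigP
/-! Involution centralisers `2.A₉`, `2.A₁₀`: permutation lemmas for the 3-local analysis. -/
set_option autoImplicit false
set_option linter.unusedVariables false
set_option linter.unusedSectionVars false

namespace Cfsg.Agent.MC8.Big
open Subgroup Equiv Finset Cfsg.Agent.Inv

variable {α β : Type*} [Fintype α] [DecidableEq α] {σ τ c : Perm α} {σ₀ : Perm β} {ι : β ↪ α}

theorem cover' {H : Type*} [Group H] (h4 : 4 ≤ Fintype.card α) (hH : IsNonsplitDoubleCover H (alternatingGroup α))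
    (ψ : H →* alternatingGroup α) (hs : Function.Surjective ψ) (hk : ψ.ker = center H) {a : H}
    (d : Dbl (ψ a : Perm α)) : a * a ≠ 1 := by
  obtain ⟨h1, -, h3⟩ := hH
  obtain ⟨p, q⟩ := d
  obtain ⟨⟨z, zc⟩, z1, hz⟩ := (Nat.card_eq_two_iff' (1 : center H)).1 h1
  have c : ∀ a ∈ center H, a = 1 ∨ a = z := fun a i => or_iff_not_imp_left.2 fun j =>
    congrArg Subtype.val (hz ⟨a, i⟩ fun k => j (congrArg Subtype.val k))
  have z1' : z ≠ 1 := fun k => z1 (Subtype.ext k)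
  have zz : z * z = 1 := (c _ (mul_mem zc zc)).resolve_right (by simpa using z1')
  obtain ⟨o, s, i, j, n1, n2, n3, n4, n5, n6⟩ := Cov.four_pts h4
  have d := Perm.disjoint_swap_swap (x := s) (y := i) (z := o) (t := j) (by simp [*, Ne.symm])
  have p' : swap s i * swap o j * (swap s i * swap o j) = 1 := by
    rw [mul_assoc, ← mul_assoc (swap o j), ← d.commute.eq, mul_assoc, swap_mul_self, mul_one, swap_mul_self]
  obtain ⟨g, hg⟩ := isConj_iff.1 (Perm.isConj_of_cycleType_eq (σ := swap s i * swap o j) (τ := ψ a) (by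
    rw [(cyc_inv p).1, (cyc_inv p').1, q, d.card_support_mul, Perm.card_support_swap n3.symm,
      Perm.card_support_swap n4.symm]))
  rw [← conj_mul, ← swap_apply_apply, ← swap_apply_apply] at hg
  have m : ∀ {i j}, i ≠ j → g i ≠ g j := fun i => g.injective.ne i
  obtain ⟨hL, -⟩ := Cov.lifts_two hs hk.le (IsPGroup.of_card (n := 1) (by rw [hk, h1, pow_one]))
  obtain ⟨u, pu, hu⟩ := hL.ex (g o) (g s) (g i) (m n1.symm) (m n2.symm) (m n3.symm)
  obtain ⟨v, pv, hv⟩ := hL.ex (g o) (g s) (g j) (m n1.symm) (m n4.symm) (m n5.symm)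
  have hw : (u * v)⁻¹ * a ∈ center H := by
    rw [← hk, MonoidHom.mem_ker, map_mul, map_inv, inv_mul_eq_one]
    exact Subtype.ext (by rw [map_mul, Subgroup.coe_mul, hu, hv, Cov.c3_mul (m n2) (m n3), hg])
  intro i
  have hz : u * v * u * v = 1 := by
    rw [mul_assoc (u * v), ← i]
    rcases c _ hw with j | j
    · rw [inv_mul_eq_one.1 j]
    · rw [inv_mul_eq_iff_eq_mul.1 j, mul_assoc _ z, ← mem_center_iff.1 zc, mul_assoc (u * v) z, zz, mul_one]
  obtain ⟨χ, hχ⟩ := hL.section_of (m n1) (m n2) (m n3) (m n4) (m n5) (m n6) pu pv hu hv (MonoidHom.id H) ψ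
    (fun _ => rfl) hz
  refine h3 χ.range (isComplement'_of_disjoint_and_mul_eq_univ ?_ ?_)
  · rw [Subgroup.disjoint_def]
    rintro _ h ⟨a, rfl⟩
    rw [← hk, MonoidHom.mem_ker, hχ] at h
    rw [h, map_one]
  · refine Set.eq_univ_of_forall fun y => ⟨y * (χ (ψ y))⁻¹, ?_, χ (ψ y), ⟨_, rfl⟩, by simp⟩
    rw [SetLike.mem_coe, ← hk, MonoidHom.mem_ker, map_mul, map_inv, hχ, mul_inv_cancel]

theorem J_supp [Fintype β] [DecidableEq β] (ι : β ↪ α) (σ₀ : Perm β) : (J ι σ₀).support.card = σ₀.support.card := by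
  rw [← card_map ι]
  congr 1; ext p
  by_cases e : p ∈ Set.range ι
  · obtain ⟨i, rfl⟩ := e
    simp [rpJ ι σ₀ i]
  · simpa [J_out _ e] using fun i _ k => e ⟨i, k⟩

theorem conjA (h : σ * σ = 1) (h' : τ * τ = 1) (e : σ.support.card = τ.support.card) (h1 : σ ≠ 1) :
    ∃ ρ : Perm α, Perm.sign ρ = 1 ∧ ρ * σ * ρ⁻¹ = τ := by
  obtain ⟨g, hg⟩ := isConj_iff.1 (Perm.isConj_of_cycleType_eq (σ := σ) (τ := τ) (by
    rw [(cyc_inv h).1, (cyc_inv h').1, e]))
  rcases Int.units_eq_one_or (Perm.sign g) with s | s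
  · exact ⟨g, s, hg⟩
  obtain ⟨p, hp⟩ : ∃ p, σ p ≠ p := by simpa [Perm.ext_iff] using h1
  have k : swap p (σ p) * σ = σ * swap p (σ p) := by
    rw [mul_swap_eq_swap_mul, ← Perm.mul_apply σ σ, h, Perm.one_apply, swap_comm]
  exact ⟨g * swap p (σ p), by rw [map_mul, s, Perm.sign_swap hp.symm]; rfl,
    by rw [mul_inv_rev, mul_assoc g, k, ← hg]; group⟩

theorem inv3 (h9 : 9 ≤ Fintype.card α) (hc : c.IsThreeCycle) : ∃ ω δ : Perm α, ω * ω = 1 ∧ ω.support.card = 8 ∧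
    ω * c * ω⁻¹ = c⁻¹ ∧ Dbl δ ∧ δ * ω * (δ * ω) = 1 ∧ (δ * ω).support.card = 8 := by
  obtain ⟨ι⟩ := Function.Embedding.nonempty_of_card_le (α := Fin 9) (β := α) (by simpa using h9)
  obtain ⟨c₀, ω, δ, a1, a2, a3, a4, a5, a6, a7, a8⟩ : ∃ c ω δ : Perm (Fin 9), c.support.card = 3 ∧ ω * ω = 1 ∧
      ω.support.card = 8 ∧ ω * c * ω⁻¹ = c⁻¹ ∧ δ * δ = 1 ∧ δ.support.card = 4 ∧ δ * ω * (δ * ω) = 1 ∧
      (δ * ω).support.card = 8 :=
    ⟨swap 0 1 * swap 0 8, swap 0 1 * swap 2 3 * swap 4 5 * swap 6 7, swap 2 4 * swap 3 5, by decide +kernel⟩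
  obtain ⟨g, e⟩ := isConj_iff.1 (Perm.isConj_of_cycleType_eq (σ := J ι c₀) (τ := c) (by
    rw [hc.cycleType, (card_support_eq_three_iff.1 (by rw [J_supp, a1])).cycleType]))
  obtain ⟨F, s, rfl⟩ : ∃ F : Perm (Fin 9) →* Perm α, (∀ v, (F v).support.card = v.support.card) ∧ F c₀ = c :=
    ⟨(MulAut.conj g).toMonoidHom.comp (J ι), fun v => (Perm.card_support_conj).trans (J_supp ι v), e⟩
  refine ⟨F ω, F δ, ?_, ?_, ?_, ⟨?_, ?_⟩, ?_, ?_⟩ <;> simp only [← map_mul, ← map_inv, map_one, *]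

theorem dis (h : τ * τ = 1) (hc : c.IsThreeCycle) (k : τ * c = c * τ) : τ.support.card + 3 ≤ Fintype.card α := by
  have a := dvd_card Nat.prime_three (hc.orderOf ▸ pow_orderOf_eq_one c) (fun p => τ p ≠ p ∧ c p ≠ p)
    (fun p => by simp [fx k]) fun _ h => h.2
  have b := dvd_card Nat.prime_two (pow_two τ ▸ h) (fun p => τ p ≠ p ∧ c p ≠ p) (fun p => by simp [fx k.symm])
    fun _ h => h.1
  have e : (univ.filter fun p => τ p ≠ p ∧ c p ≠ p) = τ.support ∩ c.support := by ext; simp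
  have := card_le_card (inter_subset_right (s₁ := τ.support) (s₂ := c.support))
  have := card_union_add_card_inter τ.support c.support
  have := card_le_univ (τ.support ∪ c.support)
  rw [e] at a b
  have := hc.card_support
  omega

theorem oddN (h8 : 8 ≤ Fintype.card α) (hc : c.IsThreeCycle) {K : Subgroup (Perm α)} (cK : c ∈ K)
    (h1 : ∀ k ∈ K, Perm.sign k = 1 ∧ k * c = c * k)
    (h2 : ∀ k ∈ K, ∀ ρ, Perm.sign ρ = 1 → ρ * c = c * ρ → ρ * k * ρ⁻¹ ∈ K) (h3 : ∀ k ∈ K, ¬ Dbl k) :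
    K ≤ zpowers c := by
  let P : α → Prop := fun p => c p = p
  have h5 : 5 ≤ Fintype.card (Subtype P) := by
    have := card_compl c.support
    rw [hc.card_support, Perm.support, compl_filter] at this
    rw [Fintype.card_subtype]
    simp only [ne_eq, not_not] at this
    omega
  have := alternatingGroup.isSimpleGroup (α := Subtype P) (by rwa [Nat.card_eq_fintype_card])
  let f : alternatingGroup (Subtype P) →* Perm α := Perm.ofSubtype.comp (Subgroup.subtype _)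
  have : (K.comap f).Normal := ⟨fun k i ρ => by
    rw [mem_comap, map_mul, map_mul, map_inv]
    refine h2 _ i _ ((Perm.sign_ofSubtype _).trans ρ.2) (Perm.Disjoint.commute fun p => ?_)
    exact (em (P p)).symm.imp_left (Perm.ofSubtype_apply_of_not_mem _)⟩
  rcases this.eq_bot_or_eq_top with q | q
  · intro k i
    obtain ⟨p, hp⟩ := card_pos.1 (hc.card_support ▸ three_pos : 0 < c.support.card)
    rw [Perm.mem_support] at hp
    obtain ⟨m, hm⟩ := hc.isCycle.exists_zpow_eq hp ((fx (h1 k i).2.symm p).not.2 hp)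
    have j := mul_mem (inv_mem (zpow_mem cK m)) i
    have a : ∀ x, ((c ^ m)⁻¹ * k) x ≠ x → P x := fun x e => by_contra fun l => e (by
      obtain ⟨r, rfl⟩ := hc.isCycle.exists_zpow_eq hp l
      rw [← Perm.mul_apply, ((show Commute _ c from (h1 _ j).2).zpow_right r).eq, Perm.mul_apply, Perm.mul_apply,
        ← hm]; simp)
    have e := Perm.ofSubtype_subtypePerm (fx (h1 _ j).2.symm) a
    have : (⟨_, (Perm.sign_ofSubtype _).symm.trans (e.symm ▸ (h1 _ j).1)⟩ : alternatingGroup (Subtype P)) ∈ K.comap f :=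
      show Perm.ofSubtype _ ∈ K from e.symm ▸ j
    rw [q, mem_bot, Subtype.ext_iff] at this
    rw [show Perm.subtypePerm _ _ = 1 from this, map_one, eq_comm, inv_mul_eq_one] at e
    exact ⟨m, e⟩
  · obtain ⟨x, y, x3, y3, d, -⟩ := quad (σ := (1 : Perm (Subtype P))) (by simpa using (by omega))
    refine (h3 _ (show (⟨x * y, by rw [Perm.mem_alternatingGroup, map_mul, even_of_odd (by decide) x3,
      even_of_odd (by decide) y3, mul_one]⟩ : alternatingGroup _) ∈ K.comap f from q ▸ mem_top _) ⟨?_, ?_⟩).elim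
    · rw [← map_mul]; exact (congrArg Perm.ofSubtype d.1).trans (map_one _)
    · exact (congrArg card (Perm.support_ofSubtype _)).trans ((card_map _).trans d.2)

theorem le9 {Y : Subgroup (Perm α)} (h : τ * τ = 1) (h8 : 8 ≤ τ.support.card) (h10 : Fintype.card α ≤ 10)
    (h3 : ∀ y ∈ Y, y ^ 3 = 1) (hi : ∀ y ∈ Y, τ * y * τ⁻¹ = y⁻¹) : Nat.card Y ≤ 9 := by
  classical
  have cm : ∀ a ∈ Y, ∀ b ∈ Y, a * b = b * a := fun a i b j => by
    have := hi _ (mul_mem i j)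
    rw [← conj_mul, hi a i, hi b j, ← mul_inv_rev, inv_inj] at this
    exact this.symm
  have ft : ∀ y ∈ Y, ∀ p, y (τ p) = τ p ↔ y p = p := fun y i p => by
    rw [← Perm.eq_inv_iff_eq, ← hi y i, Perm.mul_apply, Perm.mul_apply, τ.apply_eq_iff_eq, eq_comm]; simp
  have := Fact.mk Nat.prime_three
  have pY : IsPGroup 3 Y := fun y => ⟨1, Subtype.ext (by simpa using h3 _ y.2)⟩
  have mv : ∀ y : Perm α, y ≠ 1 → ∃ p, y p ≠ p := fun y i => by simpa [Perm.ext_iff] using i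
  have ob : ∀ p : α, (MulAction.stabilizer Y p).index = (univ.filter fun q => q ∈ MulAction.orbit Y p).card := fun p => by
    rw [MulAction.index_stabilizer, ← Set.ncard_coe_finset]; congr 1; ext; simp
  by_cases A : ∃ p : α, MulAction.stabilizer Y p = ⊥
  · obtain ⟨p, e⟩ := A
    obtain ⟨k, hk⟩ := pY.exists_card_eq
    have := ob p
    rw [e, index_bot] at this
    have := this.trans_le ((card_le_univ _).trans h10)
    rw [hk] at this ⊢
    have : k < 3 := (Nat.pow_lt_pow_iff_right (by norm_num)).1 (this.trans_lt (by norm_num : 10 < 3 ^ 3))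
    interval_cases k <;> omega
  push Not at A
  have B : ∀ p, ∃ y ∈ Y, y ≠ 1 ∧ y p = p := fun p => by
    obtain ⟨⟨⟨y, i⟩, j⟩, k⟩ := ne_bot_iff_exists_ne_one.1 (A p)
    exact ⟨y, i, fun e => k (Subtype.ext (Subtype.ext e)), j⟩
  have d3 : ∀ y ∈ Y, ∀ (P : α → Prop) [DecidablePred P], (∀ p, P (y p) ↔ P p) → ∀ p, P p → y p ≠ p →
      3 ≤ (univ.filter fun q => P q ∧ y q ≠ q).card ∧ 3 ∣ (univ.filter fun q => P q ∧ y q ≠ q).card := fun y i P _ a p b e => by
    have := dvd_card Nat.prime_three (h3 y i) (fun q => P q ∧ y q ≠ q) (fun q => by simp [a]) fun _ h => h.2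
    exact ⟨Nat.le_of_dvd (card_pos.2 ⟨p, by simp [b, e]⟩) this, this⟩
  have I : ∀ p : α, (MulAction.stabilizer Y p).index ≤ 3 := fun p => by
    obtain ⟨y, i, j, k⟩ := B p
    obtain ⟨q, l⟩ := mv y j
    have a := (d3 y i (fun _ => True) (fun _ => Iff.rfl) q trivial l).1
    have b := card_filter_add_card_filter_not (s := univ) fun q => True ∧ y q ≠ q
    have e := card_le_card (s := univ.filter fun q => q ∈ MulAction.orbit Y p)
      (t := univ.filter fun q => ¬ (True ∧ y q ≠ q)) fun q => by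
        simp only [mem_filter, mem_univ, true_and, not_not]
        rintro ⟨w, rfl⟩
        exact (fx (cm _ i _ w.2) p).2 k
    obtain ⟨r, hr⟩ := pY.index (MulAction.stabilizer Y p)
    rw [card_univ] at b
    rw [← ob, hr] at e
    have : r < 2 := (Nat.pow_lt_pow_iff_right (by norm_num)).1 (show 3 ^ r < 3 ^ 2 by omega)
    rw [hr]; interval_cases r <;> omega
  rcases eq_or_ne Y ⊥ with rfl | Y1
  · simp
  obtain ⟨⟨y₁, i₁⟩, j₁⟩ := ne_bot_iff_exists_ne_one.1 Y1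
  obtain ⟨p₁, l₁⟩ := mv y₁ fun e => j₁ (Subtype.ext e)
  obtain ⟨y₂, i₂, j₂, k₂⟩ := B p₁
  obtain ⟨p₂, l₂⟩ := mv y₂ j₂
  rcases eq_or_ne (MulAction.stabilizer Y p₁ ⊓ MulAction.stabilizer Y p₂) ⊥ with e | e
  · rw [← index_bot, ← e]
    exact (index_inf_le).trans (Nat.mul_le_mul (I _) (I _))
  obtain ⟨⟨⟨y₃, i₃⟩, k₃, k₃'⟩, j₃⟩ := ne_bot_iff_exists_ne_one.1 e
  obtain ⟨p₃, l₃⟩ := mv y₃ fun e => j₃ (Subtype.ext (Subtype.ext e))
  have fo : ∀ (Q : α → Prop) [DecidablePred Q], (∀ p, Q (τ p) ↔ Q p) → (univ.filter Q).card = 3 →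
      ∃ p, Q p ∧ p ∈ τ.supportᶜ := fun Q _ a b => by
    by_contra! n
    have := dvd_card Nat.prime_two (pow_two τ ▸ h) Q a (by simpa using n)
    omega
  have a₃ := d3 _ i₃ (fun _ => True) (fun _ => Iff.rfl) _ trivial l₃
  have a₂ := d3 _ i₂ (fun q => y₃ q = q) (fx (cm _ i₃ _ i₂)) _ k₃' l₂
  have a₁ := d3 _ i₁ (fun q => y₃ q = q ∧ y₂ q = q) (fun q => by rw [fx (cm _ i₃ _ i₁), fx (cm _ i₂ _ i₁)]) _
    ⟨k₃, k₂⟩ l₁
  have b₃ := card_filter_add_card_filter_not (s := univ) fun q => y₃ q = q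
  have b₂ := card_filter_add_card_filter_not (s := univ.filter fun q => y₃ q = q) fun q => y₂ q = q
  have b₁ := card_filter_add_card_filter_not (s := univ.filter fun q => y₃ q = q ∧ y₂ q = q) fun q => y₁ q = q
  simp only [filter_filter, true_and, ne_eq, card_univ] at a₁ a₂ a₃ b₁ b₂ b₃
  obtain ⟨q₃, m₃, n₃⟩ := fo (fun q => ¬ y₃ q = q) (fun q => by rw [ft _ i₃]) (by omega)
  obtain ⟨q₂, m₂, n₂⟩ := fo (fun q => y₃ q = q ∧ ¬ y₂ q = q) (fun q => by rw [ft _ i₃, ft _ i₂]) (by omega)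
  obtain ⟨q₁, m₁, n₁⟩ := fo (fun q => (y₃ q = q ∧ y₂ q = q) ∧ ¬ y₁ q = q)
    (fun q => by rw [ft _ i₃, ft _ i₂, ft _ i₁]) (by omega)
  have := two_lt_card_iff.2 ⟨q₁, q₂, q₃, n₁, n₂, n₃, fun e => m₂.2 (e ▸ m₁.1.2), fun e => m₃ (e ▸ m₁.1.1),
    fun e => m₃ (e ▸ m₂.1)⟩
  rw [card_compl] at this
  omega

end Cfsg.Agent.MC8.Big
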