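import Cfsg.Agent.MC8.Big
import Cfsg.Agent.MC8.LocP
import Cfsg.Agent.BG.Base3
/-! Involution centralisers `2.A₉`, `2.A₁₀`: the centraliser of a lifted 3-cycle. -/
set_option autoImplicit false
set_option linter.unusedVariables false
set_option linter.unusedSectionVars false

namespace Cfsg.Agent.MC8
open Subgroup Equiv Cfsg.Agent.BG Cfsg.Agent.Inv

namespace Big
variable {G α : Type*} [Group G] [Fintype α] [DecidableEq α] {z t a b x u s g : G} {π φ : G → Perm α}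

theorem dec (ss : s * s = 1) (ho : ¬ 2 ∣ orderOf (g⁻¹ * (s * g * s⁻¹))) :
    ∃ i ∈ zpowers (g⁻¹ * (s * g * s⁻¹)), s * i * s⁻¹ = i⁻¹ ∧ g * i ∈ C1[s] := by
  have e : s * (g⁻¹ * (s * g * s⁻¹)) * s⁻¹ = (g⁻¹ * (s * g * s⁻¹))⁻¹ := by
    rw [inv_eq_of_mul_eq_one_left ss]
    calc _ = s * g⁻¹ * s * g * (s * s) := by group
      _ = _ := by rw [ss, mul_inv_rev, mul_inv_rev, mul_inv_rev, inv_eq_of_mul_eq_one_left ss]; group
  have f : s * g * s⁻¹ = g * (g⁻¹ * (s * g * s⁻¹)) := by group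
  generalize g⁻¹ * (s * g * s⁻¹) = h at *
  obtain ⟨k, hk⟩ := Nat.not_even_iff_odd.1 (mt even_iff_two_dvd.1 ho)
  have i : s * h ^ (k + 1) * s⁻¹ = (h ^ (k + 1))⁻¹ := by rw [← conj_pow, e, inv_pow]
  refine ⟨h ^ (k + 1), pow_mem (mem_zpowers h) _, i, mem_C1'.2 (mul_inv_eq_iff_eq_mul.1 ?_)⟩
  rw [← conj_mul, i, f, mul_assoc, mul_right_inj, mul_inv_eq_iff_eq_mul, ← pow_add,
    show k + 1 + (k + 1) = orderOf h + 1 by omega, pow_succ, pow_orderOf_eq_one, one_mul]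

namespace St
variable (h : St z π)
include h

def hom : C1[z] →* Perm α := MonoidHom.mk' (fun a => π a) fun a b => h.mul _ a.2 _ b.2

theorem eq3 (ha : a ∈ C1[z]) (hb : b ∈ C1[z]) (a3 : a ^ 3 = 1) (b3 : b ^ 3 = 1) (e : π a = π b) : b = a :=
  (h.eqL ha hb e).resolve_right fun i => by
    rw [i, (show Commute a z from mem_C1.1 ha).mul_pow, a3, pow_succ, pow_two, sq_of_ord2 h.oz] at b3
    exact ne_one_of_ord2 h.oz (by simpa using b3)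

theorem ge8 (hu : u ∈ C1[z]) (o : orderOf u = 2) (n : u ≠ z) : π u * π u = 1 ∧ 8 ≤ (π u).support.card :=
  have e : π u * π u = 1 := by rw [← h.mul _ hu _ hu, sq_of_ord2 o, h.one]
  ⟨e, (supp_inv e (fun e => (h.ker u hu e).elim (ne_one_of_ord2 o) n) (h.ev u hu)).resolve_left fun i =>
    ne_one_of_ord2 h.oz ((h.dbl u hu ⟨e, i⟩).symm.trans (sq_of_ord2 o))⟩

theorem pair [Finite G] [IsSimpleGroup G] (h9 : 9 ≤ Fintype.card α) (hx : x ∈ C1[z]) (x3 : x ^ 3 = 1)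
    (hc : (π x).IsThreeCycle) : ∃ w ∈ C1[z], w ≠ z ∧ w * x * w⁻¹ = x⁻¹ ∧ (∃ g, g * z * g⁻¹ = w) ∧
      ∃ g, g * z * g⁻¹ = w * z := by
  obtain ⟨g, a, b⟩ := h.exists_pr (by omega)
  have p : Pr z π _ _ := ⟨h, h.conj g, a, b⟩
  have n : ∀ {σ : Perm α}, σ.support.card = 8 → σ ≠ 1 := fun e i => by simp [i] at e
  have s8 := le_antisymm p.symm.le8 p.ge8
  obtain ⟨ω, δ, o2, o8, oc, d, d2, d8⟩ := inv3 h9 hc
  obtain ⟨ρ, s, e⟩ := conjA p.tt o2 (s8.trans o8.symm) (n s8)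
  obtain ⟨r, hr, rfl⟩ := h.sur ρ s
  obtain ⟨ρ, s, e'⟩ := conjA o2 d2 (o8.trans d8.symm) (n o8)
  obtain ⟨q, hq, rfl⟩ := h.sur ρ s
  obtain ⟨c, hc, rfl⟩ := h.sur δ (by simpa [s] using (congrArg Perm.sign e').symm)
  have hw := mul_mem (mul_mem hr a) (inv_mem hr)
  have w2 : r * (g * z * g⁻¹) * r⁻¹ * (r * (g * z * g⁻¹) * r⁻¹) = 1 := by
    rw [conj_mul, conj_mul, sq_of_ord2 h.oz]; group
  have wn : r * (g * z * g⁻¹) * r⁻¹ ≠ z := fun i => b (by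
    rw [mul_inv_eq_iff_eq_mul, ← mem_C1.1 hr] at i; exact mul_left_cancel i)
  have wc : (r * g) * z * (r * g)⁻¹ = r * (g * z * g⁻¹) * r⁻¹ := by group
  rw [← h.cnj hr a] at e
  generalize r * (g * z * g⁻¹) * r⁻¹ = w at *
  subst e
  refine ⟨w, hw, wn, h.eq3 (inv_mem hx) (mul_mem (mul_mem hw hx) (inv_mem hw)) (by rw [inv_pow, x3, inv_one])
    (by rw [conj_pow, x3]; group) (by rw [h.cnj hw hx, oc, h.inv hx]), ⟨_, wc⟩, c * (r * g), ?_⟩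
  have hv := mul_mem (mul_mem hq hw) (inv_mem hq)
  have v2 : q * w * q⁻¹ * (q * w * q⁻¹) = 1 := by rw [conj_mul, w2]; group
  have k : c * w * (c * w) = 1 := by
    rcases h.eqL hv (mul_mem hc hw) (by rw [h.cnj hq hw, e', h.mul _ hc _ hw]) with i | i <;> rw [i]
    · exact v2
    · rw [mul_assoc _ z, ← mul_assoc z, ← mem_C1.1 hv, mul_assoc _ z, sq_of_ord2 h.oz, mul_one, v2]
  calc _ = w⁻¹ * w * (c * ((r * g) * z * (r * g)⁻¹) * c⁻¹) := by group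
    _ = w⁻¹ * c⁻¹ * (c * w * (c * w)) * c⁻¹ := by rw [wc]; group
    _ = w⁻¹ * (c * c)⁻¹ := by rw [k]; group
    _ = w * z := by rw [h.dbl c hc d, inv_eq_of_mul_eq_one_left w2, inv_eq_of_mul_eq_one_left (sq_of_ord2 h.oz)]

end St

theorem Pr.le9 (h : Pr z π t φ) (h10 : Fintype.card α ≤ 10) {Y : Subgroup G} (hY : Y ≤ C1[z])
    (h3 : ∀ y ∈ Y, y ^ 3 = 1) (hi : ∀ y ∈ Y, t * y * t⁻¹ = y⁻¹) : #Y ≤ 9 := by
  refine (Nat.card_le_card_of_injective (α := Y) (β := (Y.subgroupOf C1[z]).map h.l.hom)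
    (fun y => ⟨π y, ⟨y, hY y.2⟩, y.2, rfl⟩) fun a b e => Subtype.ext (h.l.eq3 (hY b.2) (hY a.2) (h3 _ b.2) (h3 _ a.2)
      (congrArg Subtype.val e).symm)).trans (Big.le9 h.tt h.ge8 h10 ?_ ?_)
  · rintro _ ⟨y, i, rfl⟩
    exact h.l.p1 y.2 (h3 _ i)
  · rintro _ ⟨y, i, rfl⟩
    exact (h.l.cnj h.tz y.2).symm.trans ((congrArg π (hi _ i)).trans (h.l.inv y.2))

theorem St.loc [Finite G] [IsSimpleGroup G] (h : St t π) (h9 : 9 ≤ Fintype.card α) (h10 : Fintype.card α ≤ 10)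
    (hx : x ∈ C1[t]) (x3 : x ^ 3 = 1) (hc : (π x).IsThreeCycle) : ∃ R : Subgroup G, #R ≤ 243 ∧ x ∈ R ∧
      (∀ c : G, c * t = t * c → c * x = x * c → c ∈ N[R]) ∧
        ∀ q : G, q ^ 3 = 1 → q * x = x * q → t * q * t⁻¹ = q⁻¹ → q ∈ R := by
  obtain ⟨O, hO⟩ : ∃ O, O = O[{2}ᶜ](C1[x]) := ⟨_, rfl⟩
  have tx := C1_symm hx
  have tt := sq_of_ord2 h.oz
  have OM : O ≤ C1[x] := hO ▸ O_le _ _
  have On : N[C1[x]] ≤ N[O] := hO ▸ normO _ le_rfl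
  have MO := (normG _).trans On
  have od : ∀ g ∈ O, ¬ 2 ∣ orderOf g := fun g i => (pin_compl Nat.prime_two).1 ((O_pig _ _).elt (hO ▸ i))
  have tO : t ∉ O := fun i => od t i (h.oz ▸ dvd_rfl)
  have zs : ∀ m ∈ C1[x], t * m * t⁻¹ * m⁻¹ ∈ O := fun m i => by
    rw [hO, ← pPrimeCore_map Nat.prime_two]
    refine ⟨_, Blk.zstar (t := (⟨t, tx⟩ : C1[x])) ⟨by rw [← h.oz, orderOf_mk], fun g j => Subtype.ext ?_⟩ ⟨m, i⟩, rfl⟩
    by_contra n
    have k : g * t * (g : G)⁻¹ ∈ C1[t] := mem_C1'.2 (congrArg Subtype.val j)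
    obtain ⟨e, l⟩ := h.ge8 k (by rw [orderOf_conj', h.oz]) n
    have := dis e hc (h.cm k hx (mem_C1.1 (g * ⟨t, tx⟩ * g⁻¹).2))
    omega
  have ZO : zpowers x ≤ O := hO ▸ le_O (zpowers_le.2 (mem_C1_self x)) (norm_zpowers le_rfl)
    (pig_zpowers.2 ((pie_of_pow Nat.prime_three x3).ne_compl (by decide)))
  have cz : ∀ c ∈ zpowers x, ∀ g ∈ O, g * c = c * g := fun c i g j => mem_C1.1 (C1_le_of_mem_zpowers i (OM j))
  have ct : ∀ k ∈ O, k ∈ C1[t] → k ∈ zpowers x := fun k i j => by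
    obtain ⟨m, e⟩ := oddN (by omega) hc (K := (O.subgroupOf C1[t]).map h.hom) ⟨⟨x, hx⟩, ZO (mem_zpowers x), rfl⟩
      (by rintro _ ⟨a, l, rfl⟩; exact ⟨h.ev _ a.2, h.cm a.2 hx (mem_C1.1 (OM l))⟩)
      (by
        rintro _ ⟨a, l, rfl⟩ ρ s c
        obtain ⟨r, hr, rfl⟩ := h.sur ρ s
        exact ⟨⟨r, hr⟩ * a * ⟨r, hr⟩⁻¹, (mem_normalizer_iff.1 (MO (mem_C1.2 (h.comm hr hx x3 c))) _).1 l,
          h.cnj hr a.2⟩)
      (by rintro _ ⟨a, l, rfl⟩ d; exact tO (h.dbl _ a.2 d ▸ mul_mem l l)) ⟨⟨k, j⟩, i, rfl⟩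
    rcases h.eqL (zpow_mem hx m) j ((map_zpow h.hom ⟨x, hx⟩ m).trans e) with l | l
    · exact ⟨m, l.symm⟩
    · exact (tO ((mul_mem_cancel_left (ZO ⟨m, rfl⟩)).1 (l ▸ i))).elim
  have nm : ∀ {H : Subgroup G} {s g}, s ∈ N[H] → g ∈ H → zpowers (g⁻¹ * (s * g * s⁻¹)) ≤ H := fun i j =>
    zpowers_le.2 (mul_mem (inv_mem j) ((mem_normalizer_iff.1 i _).1 j))
  have iv : ∀ g ∈ O, g * (t * g * t⁻¹) ∈ zpowers x := fun g i => by
    obtain ⟨j, a, b, c⟩ := dec tt (od _ (nm (MO tx) i (mem_zpowers _)))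
    have a := nm (MO tx) i a
    have d := ct _ (mul_mem i a) c
    convert mul_mem d d using 1
    calc _ = g * (t * (g * j) * t⁻¹ * (t * j * t⁻¹)⁻¹) := by group
      _ = g * (g * j * j) := by rw [← mem_C1.1 c, b, mul_inv_cancel_right, inv_inv]
      _ = _ := by rw [← cz _ d j a, mul_assoc g j]
  have cube : ∀ a ∈ O, ∀ b ∈ O, ∃ c ∈ zpowers x, (a * b) ^ 3 = a ^ 3 * b ^ 3 * c := fun a i b j => by
    obtain ⟨c, k, e⟩ : ∃ c ∈ zpowers x, b * a = a * (b * c) := by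
      have k : (a * b * a⁻¹ * b⁻¹)⁻¹ ∈ zpowers x := inv_mem (by
        convert mul_mem (mul_mem (iv _ (mul_mem i j)) (inv_mem (iv b j))) (inv_mem (iv a i)) using 1
        calc _ = a * b * (t * a * t⁻¹) * ((a * (t * a * t⁻¹))⁻¹ * b⁻¹) := by group
          _ = _ := by rw [← cz _ (inv_mem (iv a i)) _ (inv_mem j)]; group)
      exact ⟨_, k, by rw [← mul_assoc a b, cz _ k _ (mul_mem i j)]; group⟩
    have e1 : ∀ w, b * (a * w) = a * (b * (c * w)) := fun w => by rw [← mul_assoc, e]; group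
    have e2 : ∀ w, c * (a * w) = a * (c * w) := fun w => by rw [← mul_assoc, ← cz c k a i, mul_assoc]
    have e3 : ∀ w, c * (b * w) = b * (c * w) := fun w => by rw [← mul_assoc, ← cz c k b j, mul_assoc]
    exact ⟨c ^ 3, pow_mem k 3, by simp only [pow_succ, pow_zero, one_mul, mul_assoc, e1, e2, e3, ← cz c k b j]⟩
  let R : Subgroup G :=
    { carrier := {g | g ∈ O ∧ g ^ 3 ∈ zpowers x}
      mul_mem' := fun {a b} i j => ⟨mul_mem i.1 j.1, by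
        obtain ⟨c, k, e⟩ := cube a i.1 b j.1
        exact e ▸ mul_mem (mul_mem i.2 j.2) k⟩
      one_mem' := ⟨one_mem _, by simp⟩
      inv_mem' := fun {a} i => ⟨inv_mem i.1, inv_pow a 3 ▸ inv_mem i.2⟩ }
  have nR : ∀ c ∈ N[C1[x]], c ∈ N[zpowers x] → c ∈ N[R] := fun c i j => mem_normalizer_iff.2 fun g =>
    and_congr (mem_normalizer_iff.1 (On i) g) (by rw [conj_pow]; exact mem_normalizer_iff.1 j _)
  have ZR : zpowers x ≤ R := fun c i => ⟨ZO i, pow_mem i 3⟩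
  refine ⟨R, ?_, ZR (mem_zpowers x), fun c _ i => nR c (normG _ (mem_C1.2 i)) (norm_zpowers le_rfl (mem_C1.2 i)),
    fun q q3 i j => ⟨?_, q3 ▸ one_mem _⟩⟩
  swap
  · have := zs q (mem_C1.2 i)
    rw [j, ← mul_inv_rev, eq_inv_of_mul_eq_one_left (show q * q * q = 1 by rw [← q3, pow_succ, pow_two]), inv_inv] at this
    exact this
  have Y9 : ∀ u ∈ C1[t], u ≠ t → u * x * u⁻¹ = x⁻¹ → (∃ g, g * t * g⁻¹ = u) →
      u * u = 1 ∧ u ∈ N[zpowers x] ∧ u ∈ N[R] ∧ #(R ⊓ C1[u]) ≤ 9 := by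
    rintro u i n e ⟨g, rfl⟩
    have p : Pr t π _ _ := ⟨h, h.conj g, i, n⟩
    generalize g * t * g⁻¹ = u at *
    have z1 : ∀ c ∈ zpowers x, c ∈ C1[u] → c = 1 := by
      rintro _ ⟨m, rfl⟩ j
      have k : u * x ^ m * u⁻¹ = (x ^ m)⁻¹ := by rw [← conj_zpow, e, inv_zpow]
      rw [← mem_C1.1 j, mul_inv_cancel_right, eq_inv_iff_mul_eq_one] at k
      have l : (x ^ m) ^ 3 = 1 := by rw [← zpow_natCast, ← zpow_mul, mul_comm, zpow_mul, zpow_natCast, x3, one_zpow]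
      rwa [pow_succ, pow_two, k, one_mul] at l
    have nz : u ∈ N[zpowers x] := mem_N_iff_cj.2 (by rw [cj_zpowers, e, zpowers_inv])
    refine ⟨sq_of_ord2 p.r.oz, nz, nR u (mem_N_iff_cj.2 (by rw [cj_C1, e, C1_inv])) nz,
      p.symm.le9 h10 inf_le_right (fun y j => z1 _ j.1.2 (pow_mem j.2 3)) fun y j => eq_inv_of_mul_eq_one_right
        (z1 _ (iv y j.1.1) (mul_mem j.2 (mul_mem (mul_mem p.symm.tz j.2) (inv_mem p.symm.tz))))⟩
  obtain ⟨w, w1, w2, w3, w4, w5⟩ := h.pair h9 hx x3 hc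
  obtain ⟨a1, a2, a3, a4⟩ := Y9 w w1 w2 w3 w4
  obtain ⟨b1, -, b3, b4⟩ := Y9 (w * t) (mul_mem w1 (mem_C1_self t)) (fun e => by
    obtain ⟨g, l⟩ := w4
    rw [mul_eq_right.1 e, conj_eq_one_iff] at l
    exact ne_one_of_ord2 h.oz l) (by rw [← w3, mul_assoc w, mem_C1.1 tx]; group) w5
  refine (Nat.card_le_card_of_surjective (α := ↥(R ⊓ C1[w]) × ↥(R ⊓ C1[w * t]) × zpowers x)
    (fun c => ⟨c.1 * c.2.1 * c.2.2, mul_mem (mul_mem c.1.2.1 c.2.1.2.1) (ZR c.2.2.2)⟩) ?_).trans ?_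
  · rintro ⟨g, i⟩
    obtain ⟨j, c1, c2, c3⟩ := dec a1 (od _ (nm a3 i (mem_zpowers _)).1)
    have jR := inv_mem (nm a3 i c1)
    obtain ⟨k, d1, -, d3⟩ := dec b1 (od _ (nm b3 jR (mem_zpowers _)).1)
    have kZ : k ∈ zpowers x := zpowers_le.2 (by
      convert (mem_normalizer_iff.1 a2 _).1 (iv _ jR.1) using 1
      exact (congrArg (·⁻¹ * _) c2.symm).trans (by group)) d1
    exact ⟨⟨⟨_, mul_mem i (nm a3 i c1), c3⟩, ⟨_, mul_mem jR (ZR kZ), d3⟩, ⟨_, inv_mem kZ⟩⟩, Subtype.ext (by simp)⟩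
  · rw [Nat.card_prod, Nat.card_prod, Nat.card_zpowers]
    exact Nat.mul_le_mul a4 (Nat.mul_le_mul b4 (orderOf_le_of_pow_eq_one three_pos x3))

end Big

theorem locR {G : Type*} [Group G] [Finite G] [IsSimpleGroup G] (n : ℕ) (hn : n = 9 ∨ n = 10) (t : G)
    (ht : orderOf t = 2) (hcov : IsNonsplitDoubleCover (centralizer ({t} : Set G)) (alternatingGroup (Fin n)))
    (p : centralizer ({t} : Set G) →* Perm (Fin n)) (hker : ∀ c, p c = 1 ↔ (c : G) = 1 ∨ (c : G) = t)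
    (hr : p.range = alternatingGroup (Fin n)) (x : centralizer ({t} : Set G)) (hx : x ^ 3 = 1)
    (hpx : (p x).IsThreeCycle) : ∃ R : Subgroup G, Nat.card R ≤ 243 ∧ (x : G) ∈ R ∧
      (∀ c : G, c * t = t * c → c * x = x * c → c ∈ normalizer (R : Set G)) ∧
        ∀ q : G, q ^ 3 = 1 → q * x = x * q → t * q * t⁻¹ = q⁻¹ → q ∈ R := by
  classical
  let π : G → Perm (Fin n) := fun a => if i : a ∈ C1[t] then p ⟨a, i⟩ else 1
  have e : ∀ a (i : a ∈ C1[t]), π a = p ⟨a, i⟩ := fun a i => dif_pos i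
  have m : ∀ a, p a ∈ alternatingGroup (Fin n) := fun a => hr ▸ ⟨a, rfl⟩
  have tc : (⟨t, mem_C1_self t⟩ : C1[t]) ∈ center C1[t] := mem_center_iff.2 fun g => Subtype.ext (mem_C1.1 g.2)
  have hk : (p.codRestrict _ m).ker = center C1[t] := by
    obtain ⟨y, -, hy⟩ := (Nat.card_eq_two_iff' (1 : center C1[t])).1 hcov.1
    ext a
    rw [MonoidHom.ker_codRestrict, MonoidHom.mem_ker, hker]
    refine ⟨fun i => i.elim (fun j => (Subtype.ext j : a = 1) ▸ one_mem _) fun j => (Subtype.ext j : a = ⟨t, _⟩) ▸ tc,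
      fun i => or_iff_not_imp_left.2 fun j => congrArg (·.1.1) ((hy ⟨a, i⟩ fun k => j (congrArg (·.1.1) k)).trans
        (hy ⟨_, tc⟩ fun k => ne_one_of_ord2 ht (congrArg (·.1.1) k)).symm)⟩
  have h : Big.St t π := ⟨ht, fun a i b j => by rw [e a i, e b j, e _ (mul_mem i j), ← map_mul]; rfl,
    fun a i j => (hker ⟨a, i⟩).1 (e a i ▸ j), fun a i => e a i ▸ m _,
    fun σ i => by obtain ⟨⟨a, j⟩, k⟩ : σ ∈ p.range := hr ▸ i
                  exact ⟨a, j, (e a j).trans k⟩,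
    fun a i j => ((hker (⟨a, i⟩ * ⟨a, i⟩)).1 (by rw [map_mul, ← e a i, j.1])).resolve_left fun k =>
      Big.cover' (by rw [Fintype.card_fin]; omega) hcov (p.codRestrict _ m) (fun σ => by
        obtain ⟨a, k⟩ : σ.1 ∈ p.range := hr.ge σ.2
        exact ⟨a, Subtype.ext k⟩) hk (a := ⟨a, i⟩) (show Big.Dbl (p ⟨a, i⟩) from e a i ▸ j) (Subtype.ext k)⟩
  exact h.loc (by rw [Fintype.card_fin]; omega) (by rw [Fintype.card_fin]; omega) x.2 (congrArg Subtype.val hx)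
    (e x x.2 ▸ hpx)

end Cfsg.Agent.MC8
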