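import Cfsg.Agent.MC8.B
import Cfsg.Agent.MC8.Iso
import Cfsg.Agent.MC8.Emb
import Cfsg.Agent.MC8.Loc
import Cfsg.Agent.H8.SE2

/-! # Groups with an involution centraliser `2.A_n`, `8 ≤ n ≤ 10` -/

set_option autoImplicit false
set_option linter.unusedVariables false
set_option linter.unusedSimpArgs false
set_option linter.unusedSectionVars false
set_option maxRecDepth 100000

namespace Cfsg.Agent.MC8
open Subgroup Equiv Cfsg.Agent.Spor Cfsg.Agent.Spor.LyUC Cfsg.Agent.H8Ly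

def pK (j : ℕ) : P11 := ev (atm 12 pB) (WG.getD j [])
theorem π_kk : ∀ j < 7, π (kk j) = pK j := fun j _ => πevB _
theorem πev (w : List ℕ) : π (ev (atm 7 kk) w) = ev (atm 7 pK) w := ev_atm_map' π_kk w

theorem gen8 {z : K} (hz : z ∈ SS 8) {S : Subgroup K} (h : ∀ j ∈ [0, 1, 2, 3, 4, 6], kk j ∈ S) : z ∈ S := by
  have ht : kt ∈ S := by
    have a : ka ∈ S := kk1 ▸ h 1 (by decide)
    have b : kb ∈ S := kk2 ▸ h 2 (by decide)
    exact k_abab ▸ mul_mem (mul_mem a b) (mul_mem a b)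
  exact InK.mem_lets ht h (by decide +kernel) (sift_sound π_ker π_sign πev (L := []) (α := 6) (β := 7)
    [(0, [[], [0], [2], [4], [12, 2], [8], [0, 8], [2, 8]]), (1, [[], [0, 8, 6], [4, 6, 8], [0, 8, 2], [2, 6], [0, 4, 6], [2, 8, 0]]), (2, [[], [0, 12, 2, 4, 13], [12], [0, 2, 4, 13], [13], [0, 2, 4, 12]]), (3, [[], [8, 2, 12, 6, 4], [2, 8, 12, 4, 6], [6, 4, 13, 8, 2], [4, 6, 13, 2, 8]]), (4, [[], [12, 2, 4, 12, 2, 4, 12], [13, 4, 6, 13, 2, 8, 13], [0, 2, 4]]), (5, [[], [4, 8, 13, 8, 2, 6, 4, 12], [2, 12, 2, 4, 8, 6, 13, 6]])]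
    (F := [8, 9, 10]) (by decide +kernel) (z := z) (by simp) (by
      simp only [List.forall_mem_cons, List.not_mem_nil, false_imp_iff, implies_true, and_true]
      exact ⟨hz 8 (by decide), hz 9 (by decide), hz 10 (by decide)⟩))

theorem kk_one {l : List ℕ} (h : A.isW TB0 (subW 0 7 WG l) A.one = true) : ev (atm 7 kk) l = 1 :=
  (ev_kk l).trans (gB0.eq_one h)

variable {G : Type} [Group G] {n : ℕ} {ψ : K → G} {L : LT n ψ} {m : G}

/-- the generators -/
noncomputable def gf (ψ : K → G) (m : G) (j : ℕ) : G := if j = 5 then m else ψ (kk j)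

theorem gf_ne {j : ℕ} (h : j ≠ 5) : gf ψ m j = ψ (kk j) := if_neg h
theorem gf10 : atm 7 (gf ψ m) 10 = m := atm_two_mul _ (j := 5) (by omega)

theorem LT.ev (L : LT n ψ) (m : G) {l : List ℕ} (h : l.all (fun y => y / 2 != 5) = true) :
    ev (atm 7 (gf ψ m)) l = ψ (ev (atm 7 kk) l) := by
  induction l with
  | nil => exact L.one.symm
  | cons y l ih =>
    simp only [List.all_cons, Bool.and_eq_true, bne_iff_ne] at h
    rw [ev_cons, ev_cons, ih h.2, L.mul _ (L.s8 (atm_mem kk_S y)) _ (L.s8 (kk_ev_S l))]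
    congr 1
    rw [atm_def, atm_def]
    split_ifs with h1 h2
    exacts [gf_ne h.1, by rw [gf_ne h.1, L.inv (L.s8 (kk_S _ h1))], L.one.symm]

theorem MA.pres (M : MA L m) (h2 : m * m = 1) : Pres 7 6 McB.RL (gf ψ m) := by
  have mi : m⁻¹ = m := inv_eq_of_mul_eq_one_right h2
  have e : ∀ z w, Cj L m z w → w * z = 1 → m * (ψ z * (m * ψ z)) = 1 := fun z w a q => by
    have := a.e
    rw [mi] at this
    rw [← mul_assoc, ← mul_assoc, this, ← L.mul _ a.r _ a.l, q, L.one]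
  have s : ∀ y, y / 2 ≠ 5 → atm 7 (gf ψ m) y = ψ (atm 7 kk y) := fun y hy => by
    simpa using L.ev m (l := [y]) (by simpa using hy)
  refine ⟨fun j hj _ => ?_, fun l hl => ?_⟩
  · by_cases q : j = 5
    · rw [q]; exact h2
    · have := L.ev m (l := [2 * j, 2 * j]) (by simpa using q)
      rw [kk_one ((allN_iff _ _).1 (show allN (fun j => A.isW TB0 (subW 0 7 WG [2 * j, 2 * j]) A.one) 6 = true by
        decide +kernel) j hj), L.one] at this
      simpa [atm_two_mul _ (show j < 7 by omega)] using this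
  · have q : McB.RL = McB.RL.take 26 ++ [[10, 2, 10, 2], [10, 12, 10, 12], [10, 4, 10, 13, 4, 12],
        (List.replicate 3 ([0] ++ [10])).flatten] ++ PF.map fun x => (List.replicate 5 (x.1 ++ [10])).flatten := by
      decide +kernel
    rw [q] at hl
    simp only [List.mem_append, List.mem_cons, List.not_mem_nil, or_false, List.mem_map] at hl
    rcases hl with (hl | rfl | rfl | rfl | rfl) | ⟨x, hx, rfl⟩
    · have := (lall_iff _ _).1 (show lall (fun l => band (l.all fun y => y / 2 != 5)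
        (A.isW TB0 (subW 0 7 WG l) A.one)) (McB.RL.take 26) = true by decide +kernel) l hl
      rw [band_eq, Bool.and_eq_true] at this
      rw [L.ev m this.1, kk_one this.2, L.one]
    · simp only [ev_cons, ev_nil, mul_one, gf10, s 2 (by decide), atm_two_mul kk (n := 7) (j := 1) (by omega), kk1]
      exact e _ _ M.a k_aa
    · simp only [ev_cons, ev_nil, mul_one, gf10, s 12 (by decide), atm_two_mul kk (n := 7) (j := 6) (by omega), kk6]
      exact e _ _ M.y (inv_mul_cancel _)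
    · simp only [ev_cons, ev_nil, mul_one, gf10, s 12 (by decide), s 13 (by decide), s 4 (by decide),
        atm_two_mul kk (n := 7) (j := 6) (by omega), atm_odd kk (n := 7) (j := 6) (by omega),
        atm_two_mul kk (n := 7) (j := 2) (by omega), kk6, kk2]
      have := M.b.e
      rw [mi] at this
      rw [← L.mul _ (L.s8 b_S) _ (L.s8 y_S), ← L.mul _ (L.s8 (inv_mem y_S)) _ (L.s8 (mul_mem b_S y_S)),
        ← mul_assoc ky⁻¹, ← k_b2d, ← mul_assoc, ← mul_assoc, this, ← L.mul _ M.b.r _ M.b.r, M.b.sq1 k_bb, L.one]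
    · rw [ev_replicate, ev_append, L.ev m (l := [0]) (by decide)]
      simp only [ev_cons, ev_nil, mul_one, gf10, atm_two_mul kk (n := 7) (j := 0) (by omega), kk0]
      exact M.im3
    · rw [ev_replicate, ev_append, L.ev m (by revert x; decide +kernel)]
      simp only [ev_cons, ev_nil, mul_one, gf10]
      exact M.five x hx

theorem LT.mem_gf (L : LT n ψ) (m : G) {H : Subgroup G} (h : ∀ j ∈ [0, 1, 2, 3, 4, 6], gf ψ m j ∈ H) {z : K}
    (hz : z ∈ SS 8) : ψ z ∈ H := by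
  let S : Subgroup K :=
    { carrier := {z | z ∈ SS 8 ∧ ψ z ∈ H}
      one_mem' := ⟨one_mem _, L.one ▸ one_mem _⟩
      mul_mem' := fun a b => ⟨mul_mem a.1 b.1, L.mul _ (L.s8 a.1) _ (L.s8 b.1) ▸ mul_mem a.2 b.2⟩
      inv_mem' := fun a => ⟨inv_mem a.1, L.inv (L.s8 a.1) ▸ inv_mem a.2⟩ }
  refine (gen8 hz (S := S) fun j hj => ⟨kk_S j (by simp at hj; omega), ?_⟩).2
  rw [← gf_ne (ψ := ψ) (m := m) (j := j) (by simp at hj; omega)]
  exact h j hj

theorem LT.ne (L : LT n ψ) (m : G) : gf ψ m 0 ≠ 1 := by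
  rw [gf_ne (by omega), kk0]
  intro q
  have := L.inj _ (L.s8 i_S) _ (one_mem _) (q.trans L.one.symm)
  have e := k_iuiu
  rw [this, one_mul, k_uu] at e
  exact k_t_ne e.symm

theorem exists_LT (n8 : 8 ≤ n) (n10 : n ≤ 10) {t : G} (φ : SS n →* centralizer ({t} : Set G))
    (hφ : Function.Bijective φ) (ht : (φ ⟨kt, kt_mem n⟩ : G) = t) :
    ∃ ψ : K → G, LT n ψ ∧ ψ kt = t ∧ ∀ z : SS n, ψ z = φ z := by
  classical
  let ψ : K → G := fun z => if h : z ∈ SS n then φ ⟨z, h⟩ else 1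
  have e : ∀ z (h : z ∈ SS n), ψ z = φ ⟨z, h⟩ := fun z h => dif_pos h
  have et : ψ kt = t := (e _ (kt_mem n)).trans ht
  refine ⟨ψ, ⟨n8, n10, fun z hz w hw => ?_, fun z hz w hw q => ?_, fun g hg => ?_⟩, et, fun z => e _ z.2⟩
  · rw [e _ hz, e _ hw, e _ (mul_mem hz hw), ← coe_mul, ← map_mul]; rfl
  · rw [e _ hz, e _ hw] at q
    exact congrArg Subtype.val (hφ.1 (Subtype.ext q))
  · obtain ⟨z, hz⟩ := hφ.2 ⟨g, mem_centralizer_singleton_iff.2 (et ▸ hg)⟩
    exact ⟨z, z.2, by rw [e _ z.2]; exact congrArg Subtype.val hz⟩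

theorem iso8 [Finite G] [IsSimpleGroup G] {t : G} (ht : orderOf t = 2)
    (hC : IsNonsplitDoubleCover (centralizer ({t} : Set G)) (alternatingGroup (Fin 8))) :
    Nonempty (McB.P ≃* G) := by
  obtain ⟨φ, -, hφ, h1, -⟩ := exists_emb le_rfl (by omega) ht hC
  obtain ⟨ψ, L, -⟩ := exists_LT le_rfl (by omega) φ hφ h1
  obtain ⟨m, M, h2⟩ := L.exists_m
  obtain ⟨ρ, inj, hρ⟩ := homP (M.pres h2) (L.ne m)
  have al : ∀ z ∈ SS 8, ψ z ∈ gsub 7 (gf ψ m) := fun z hz =>
    L.mem_gf m (fun j hj => mem_gsub _ (by simp at hj; omega)) hz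
  have top : gsub 7 (gf ψ m) = ⊤ := by
    refine H8SE.se_top (t := ψ kt) (a := ψ ka) (b := ψ kb) (L.ord (kt_mem _) k_tt k_t_ne) (al _ (kt_mem _))
      (fun g hg => ?_) (fun s s2 hs => ?_) (L.ord a_S k_aa k_a_ne) (L.ord b_S k_bb k_b_ne) (al _ a_S) (al _ b_S)
      (by rw [← L.mul _ a_S _ b_S, ← L.mul _ (mul_mem a_S b_S) _ (mul_mem a_S b_S), k_abab])
    · obtain ⟨z, hz, rfl⟩ := L.cen g hg
      exact al z hz
    · obtain ⟨z, hz, rfl⟩ := L.cen s hs
      by_cases e : z = kt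
      · exact ⟨1, one_mem _, by simp [e]⟩
      obtain ⟨c, hc, rfl⟩ := inv_conjS le_rfl hz (L.inj _ (mul_mem hz hz) _ (one_mem _) (by
        rw [L.mul _ hz _ hz, L.one, ← pow_two, ← s2, pow_orderOf_eq_one])) (fun q => by
          rw [q, L.one, orderOf_one] at s2; omega) e
      exact ⟨_, mul_mem (al c hc) (mul_mem (al _ i_S) (mem_gsub (gf ψ m) (j := 5) (by omega))),
        (((M.t.thenK i_S).of_eq k_itu).thenK hc).e⟩
  exact ⟨MulEquiv.ofBijective ρ ⟨inj, MonoidHom.range_eq_top.1 ((range_eq_gsub hρ (gsub_lift 7 _)).trans top)⟩⟩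

theorem isoMcL {G : Type*} [Group G] [Finite G] [IsSimpleGroup G] {t : G} (ht : orderOf t = 2)
    (hC : IsNonsplitDoubleCover (centralizer ({t} : Set G)) (alternatingGroup (Fin 8))) : Cfsg.Spor.IsoMcL G := by
  let e : G ≃* Shrink.{0} G := (Shrink.mulEquiv).symm
  have : Finite (Shrink.{0} G) := Finite.of_equiv _ e.toEquiv
  have : IsSimpleGroup (Shrink.{0} G) := e.symm.isSimpleGroup
  obtain ⟨e1⟩ := iso8 (t := e t) (by rw [e.orderOf_eq, ht]) (nonsplit_congr hC (centralizerMap e t))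
  obtain ⟨e2⟩ := isoP
  exact ⟨e.trans (e1.symm.trans e2)⟩

end Cfsg.Agent.MC8
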