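import Cfsg.Agent.MC8.C

/-! # No simple group has an involution centraliser `2.A9` or `2.A10` -/

set_option autoImplicit false
set_option linter.unusedVariables false
set_option linter.unusedSimpArgs false
set_option maxRecDepth 100000

namespace Cfsg.Agent.MC8
open Subgroup Equiv Cfsg.Agent.Spor Cfsg.Agent.Spor.LyUC Cfsg.Agent.H8Ly

noncomputable def xK : K := ev (atm 7 kk) McB.xW
theorem xK_S : xK ∈ SS 8 := kk_ev_S _
theorem xK3 : xK ^ 3 = 1 := by
  rw [xK, ← ev_replicate]; exact kk_one (by decide +kernel)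
theorem π_xK : π xK = swap 0 5 * swap 0 4 := (πev _).trans (by decide +kernel)

theorem exists_c : ∃ c ∈ SS 9, c * xK = xK * c ∧ c * ky * c⁻¹ ∈ SS 8 ∧ c * ka * c⁻¹ ∉ SS 8 := by
  obtain ⟨c, hc⟩ := π_surj (σ := swap 1 2 * swap 1 8) (by decide +kernel)
  refine ⟨c, fun v => by rw [hc]; revert v; decide +kernel, ?_, fun v => ?_, fun h => ?_⟩
  · rw [← mul_inv_eq_iff_eq_mul]
    refine π_eq3 ?_ (by rw [conj_pow, xK3]; simp) xK3
    rw [map_mul, map_mul, map_inv, π_xK, hc]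
    decide +kernel
  · rw [map_mul, map_mul, map_inv, π_y, hc]
    revert v; decide +kernel
  · have := h 8 (by decide)
    rw [map_mul, map_mul, map_inv, π_a, hc] at this
    revert this; decide +kernel

theorem no910' {G : Type} [Group G] [Finite G] [IsSimpleGroup G] {n : ℕ} (hn : n = 9 ∨ n = 10) {t : G}
    (ht : orderOf t = 2) (hC : IsNonsplitDoubleCover (centralizer ({t} : Set G)) (alternatingGroup (Fin n))) :
    False := by
  obtain ⟨φ, p, hφ, h1, pk, pr, pc⟩ := exists_emb (by omega) (by omega) ht hC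
  obtain ⟨ψ, L, et, eφ⟩ := exists_LT (by omega) (by omega) φ hφ h1
  obtain ⟨m, M, h2⟩ := L.exists_m
  obtain ⟨ρ, inj, hρ⟩ := homP (M.pres h2) (L.ne m)
  obtain ⟨R, cR, xR, nR, qR⟩ := locR n hn t ht hC p pk pr (φ ⟨xK, L.s8 xK_S⟩)
    (by rw [← map_pow]; exact (congrArg φ (Subtype.ext xK3)).trans (map_one φ))
    (by
      rw [Perm.IsThreeCycle, pc, π_xK]
      exact Perm.isThreeCycle_swap_mul_swap_same (by decide) (by decide) (by decide))
  rw [← eφ] at xR nR qR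
  have pQ : Pres 7 6 (McB.RL ++ McB.L.XQ) (gf ψ m) := (McB.presQ.map ρ).congr hρ
  have ex : ev (atm 7 (gf ψ m)) McB.xW = ψ xK := L.ev m (by decide)
  have tt : t * t = 1 := by rw [← pow_two, ← ht, pow_orderOf_eq_one]
  have etw : ev (atm 7 (gf ψ m)) [2, 4, 2, 4] = t := by
    rw [L.ev m (by decide), ← et, ← k_abab]
    simp only [ev_cons, ev_nil, mul_one, atm_two_mul kk (n := 7) (j := 1) (by omega),
      atm_two_mul kk (n := 7) (j := 2) (by omega), kk1, kk2, mul_assoc]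
  have rel := consAll_sound pQ.ivOk pQ.rel (L := McB.QW.flatMap fun w => [(List.replicate 3 w).flatten,
    McB.xW ++ (w ++ invW 12 McB.xW (invW 12 w [])), [2, 4, 2, 4] ++ (w ++ ([2, 4, 2, 4] ++ w))])
    (H := [([], 42, true), ([], 43, true), ([], 44, true), ([], 45, true), ([], 46, true), ([], 47, true), ([], 48, true), ([], 49, true), ([], 50, true), ([], 51, true), ([], 52, true), ([], 53, true)])
    (by decide +kernel)
  have QR : wsub 7 (gf ψ m) (McB.xW :: McB.QW) ≤ R := wsub_le fun w hw => by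
    rcases List.mem_cons.1 hw with rfl | hw
    · exact ex ▸ xR
    have r1 := rel _ (List.mem_flatMap.2 ⟨w, hw, List.mem_cons_self⟩)
    have r2 := rel _ (List.mem_flatMap.2 ⟨w, hw, List.mem_cons_of_mem _ List.mem_cons_self⟩)
    have r3 := rel _ (List.mem_flatMap.2 ⟨w, hw, List.mem_cons_of_mem _ (List.mem_cons_of_mem _ List.mem_cons_self)⟩)
    rw [ev_replicate] at r1
    rw [ev_append, ev_append, ev_invW pQ.ivOk, ev_invW pQ.ivOk, ex, ev_nil] at r2
    rw [ev_append, ev_append, ev_append, etw] at r3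
    generalize ev (atm 7 (gf ψ m)) w = q at *
    refine qR q r1 ?_ ?_
    · calc q * ψ xK = (ψ xK * (q * ((ψ xK)⁻¹ * (q⁻¹ * 1))))⁻¹ * (ψ xK * q) := by group
        _ = _ := by rw [r2]; group
    · rw [inv_eq_of_mul_eq_one_right tt]
      exact eq_inv_of_mul_eq_one_left (by simpa only [mul_assoc] using r3)
  have eR : wsub 7 (gf ψ m) (McB.xW :: McB.QW) = R := by
    refine eq_of_le_of_card_ge QR (cR.trans (Nat.le_of_dvd Nat.card_pos ?_))
    rw [← wsub_map hρ, card_map_of_injective inj]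
    exact McB.lbQ
  obtain ⟨c, cS, cx, cy, ca⟩ := exists_c
  have cS' : c ∈ SS n := SS_mono (by omega) cS
  have cN : ψ c ∈ normalizer (R : Set G) := nR _
    (by rw [← et, ← L.mul _ cS' _ (kt_mem n), t_comm, L.mul _ (kt_mem n) _ cS'])
    (by rw [← L.mul _ cS' _ (L.s8 xK_S), cx, L.mul _ (L.s8 xK_S) _ cS'])
  have al : ∀ z ∈ SS 8, ψ z ∈ gsub 7 (gf ψ m) := fun z hz =>
    L.mem_gf m (fun j hj => mem_gsub _ (by simp at hj; omega)) hz
  have eH : ρ.range = gsub 7 (gf ψ m) := range_eq_gsub hρ (gsub_lift 7 _)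
  have eJ : gsub 7 (gf ψ m) = wsub 7 (gf ψ m) [[12], McB.xW, [4, 8, 4, 10, 6, 8, 0, 8, 6, 10, 8]] := by
    rw [← wsub_map hρ, McB.topJ, ← eH, MonoidHom.range_eq_map]
  have nH : gsub 7 (gf ψ m) ≤ (gsub 7 (gf ψ m)).comap (MulAut.conj (ψ c)).toMonoidHom := by
    have k : ∀ w ∈ McB.xW :: McB.QW, ψ c * ev (atm 7 (gf ψ m)) w * (ψ c)⁻¹ ∈ gsub 7 (gf ψ m) := fun w hw =>
      wsub_le_gsub _ _ _ (eR ▸ (mem_normalizer_iff.1 cN _).1 (QR (mem_wsub _ hw)))
    nth_rw 1 [eJ]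
    refine wsub_le fun w hw => ?_
    simp only [List.mem_cons, List.not_mem_nil, or_false] at hw
    rcases hw with rfl | rfl | rfl
    · show ψ c * _ * (ψ c)⁻¹ ∈ gsub 7 (gf ψ m)
      rw [L.ev m (by decide), ev_cons, ev_nil, mul_one, atm_two_mul kk (n := 7) (j := 6) (by omega), kk6,
        (Cj.ofK (L := L) cS' (L.s8 y_S)).e]
      exact al _ cy
    · exact k _ List.mem_cons_self
    · exact k _ (by decide)
  have a := Cj.ofK (L := L) cS' (L.s8 a_S)
  have aH : ψ (c * ka * c⁻¹) ∈ ρ.range := eH ▸ a.e ▸ nH (al _ a_S)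
  obtain ⟨g, hg⟩ := aH
  have cm : ∀ z ∈ SS n, ψ z ∈ centralizer ({t} : Set G) := fun z hz => eφ ⟨z, hz⟩ ▸ (φ _).2
  have le : wsub 7 McB.p McA.BW ≤ (centralizer ({t} : Set G)).comap ρ := by
    rw [← map_le_iff_le_comap, wsub_map hρ]
    refine wsub_le fun w hw => ?_
    rw [L.ev m (by revert w; decide)]
    exact cm _ (L.s8 (kk_ev_S _))
  have ne : (centralizer ({t} : Set G)).comap ρ ≠ ⊤ := fun q => by
    have : ρ (McB.p 5) ∈ centralizer ({t} : Set G) := mem_comap.1 (q ▸ mem_top _)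
    rw [hρ 5 (by omega), mem_centralizer_singleton_iff, ← et] at this
    exact k_u_ne (by simpa using (Cj.self (L := L) (kt_mem n) this).uniq M.t)
  have g1 : g ∈ wsub 7 McB.p McA.BW := by
    rw [(McB.coatomA.le_iff_eq ne).1 le |>.symm]
    exact (hg ▸ cm _ a.r : ρ g ∈ _)
  let T : Subgroup G :=
    { carrier := {g | ∃ z ∈ SS 8, ψ z = g}
      one_mem' := ⟨1, one_mem _, L.one⟩
      mul_mem' := fun ⟨z, h1, e1⟩ ⟨w, h2, e2⟩ => ⟨_, mul_mem h1 h2, by rw [L.mul _ (L.s8 h1) _ (L.s8 h2), e1, e2]⟩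
      inv_mem' := fun ⟨z, h1, e1⟩ => ⟨_, inv_mem h1, by rw [L.inv (L.s8 h1), e1]⟩ }
  have le2 : (wsub 7 McB.p McA.BW).map ρ ≤ T := by
    rw [wsub_map hρ]
    exact wsub_le fun w hw => ⟨_, kk_ev_S w, (L.ev m (by revert w; decide)).symm⟩
  obtain ⟨z, hz, e⟩ := le2 ⟨g, g1, hg⟩
  exact ca (L.inj _ (L.s8 hz) _ a.r e ▸ hz)

theorem no910 {G : Type*} [Group G] [Finite G] [IsSimpleGroup G] {n : ℕ} (hn : n = 9 ∨ n = 10) {t : G}
    (ht : orderOf t = 2) (hC : IsNonsplitDoubleCover (centralizer ({t} : Set G)) (alternatingGroup (Fin n))) :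
    False := by
  let e : G ≃* Shrink.{0} G := (Shrink.mulEquiv).symm
  have : Finite (Shrink.{0} G) := Finite.of_equiv _ e.toEquiv
  have : IsSimpleGroup (Shrink.{0} G) := e.symm.isSimpleGroup
  exact no910' hn (t := e t) (by rw [e.orderOf_eq, ht]) (nonsplit_congr hC (centralizerMap e t))

end Cfsg.Agent.MC8
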