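import Cfsg.Agent.Cov.An
import Cfsg.Agent.Perm.Jordan
/-! Permutation facts in degree 8. -/
set_option autoImplicit false
set_option linter.unusedVariables false

namespace Cfsg.Agent.D8
open Subgroup Equiv MulAction

/-- permutations of eight points -/
abbrev P8 := Perm (Fin 8)

theorem pow_fix {α : Type*} {f : Perm α} {x : α} {a : ℕ} (h : (f ^ a) x = x) (k : ℕ) : (f ^ (a * k)) x = x := by
  rw [pow_mul]; exact Perm.pow_apply_eq_self_of_apply_eq_self h k

theorem orb_le {α : Type*} (g : Perm α) {A : Finset α} (hA : ∀ x ∈ A, g x ∈ A) {x : α} (hx : x ∈ A) {N a b : ℕ}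
    (hN : g ^ N = 1) (hd : ∀ d, d ∣ N → d = N ∨ d ∣ a ∨ d ∣ b) (ha : (g ^ a) x ≠ x) (hb : (g ^ b) x ≠ x) : N ≤ A.card := by
  have k : ∀ n, Function.minimalPeriod g x ∣ n ↔ (g ^ n) x = x := fun n => by
    rw [← Function.isPeriodicPt_iff_minimalPeriod_dvd, Perm.coe_pow]; rfl
  have e : Function.minimalPeriod g x = N :=
    (hd _ ((k N).2 (by rw [hN]; rfl))).resolve_right fun i => i.elim (fun j => ha ((k a).1 j)) fun j => hb ((k b).1 j)
  have m : ∀ n, g^[n] x ∈ A := fun n => by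
    induction n with
    | zero => exact hx
    | succ n ih => rw [Function.iterate_succ_apply']; exact hA _ ih
  rw [← Finset.card_range N]
  exact Finset.card_le_card_of_injOn (fun n => g^[n] x) (fun n _ => m n)
    (by rw [Finset.coe_range, ← e]; exact Function.iterate_injOn_Iio_minimalPeriod)

variable {σ τ υ f g ω : P8} {x : Fin 8}

theorem cyc_inv (h : σ * σ = 1) : σ.cycleType = Multiset.replicate (σ.support.card / 2) 2 ∧
    σ.support.card = 2 * σ.cycleType.card := by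
  haveI : Fact (Nat.Prime 2) := ⟨Nat.prime_two⟩
  have e := Perm.cycleType_of_pow_prime_eq_one (p := 2) (σ := σ) (by rw [pow_two, h])
  have s := σ.sum_cycleType
  rw [e, Multiset.sum_replicate, smul_eq_mul] at s
  exact ⟨by rw [← s, Nat.mul_div_cancel _ (by norm_num)]; exact e, by omega⟩

theorem supp_inv (h : σ * σ = 1) (h1 : σ ≠ 1) (hs : Perm.sign σ = 1) :
    σ.support.card = 4 ∨ σ.support.card = 8 := by
  have e := (cyc_inv h).2
  have s := Perm.sign_of_cycleType σ
  rw [hs, σ.sum_cycleType, e] at s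
  have l : σ.support.card ≤ 8 := by simpa using σ.support.card_le_univ
  have p : σ.support.card ≠ 0 := by simpa using h1
  have ev : Even (2 * σ.cycleType.card + σ.cycleType.card) := (neg_one_pow_eq_one_iff_even (by decide)).1 s.symm
  obtain ⟨k, hk⟩ := ev
  omega

theorem conj_inv (h : σ * σ = 1) (h' : τ * τ = 1) (e : σ.support.card = τ.support.card) :
    ∃ ρ : P8, ρ * τ * ρ⁻¹ = σ :=
  isConj_iff.1 (Perm.isConj_of_cycleType_eq (by rw [(cyc_inv h).1, (cyc_inv h').1, e]))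

theorem cap (c : σ * f = f * σ) (x : Fin 8) : σ (f x) = f (σ x) := congrArg (· x) c

theorem supp_c (c : σ * f = f * σ) (hx : x ∈ σ.support) : f x ∈ σ.support := by
  rw [Perm.mem_support, cap c] at *; exact fun e => hx (f.injective e)

theorem dis3 (hσ : σ * σ = 1) (hf : f ^ 3 = 1) (c : σ * f = f * σ) {A : Finset (Fin 8)} (hA : ∀ y ∈ A, (σ * f) y ∈ A)
    (h5 : A.card ≤ 5) (xA : x ∈ A) (hx : σ x ≠ x) : f x = x := by
  by_contra n
  have c' : Commute σ f := c
  have := orb_le (σ * f) hA xA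
    (N := 6) (a := 2) (b := 3) (by rw [c'.mul_pow, show 6 = 2 * 3 from rfl, pow_mul, pow_two, hσ, pow_mul', hf]; simp)
    (fun d i => by have := Nat.le_of_dvd (by omega) i; interval_cases d <;> simp_all)
    (fun e => n (by
      rw [c'.mul_pow, pow_two, hσ, one_mul] at e
      have := pow_fix e 2
      rwa [show 2 * 2 = 3 + 1 from rfl, pow_succ, hf, one_mul] at this))
    (by rwa [c'.mul_pow, hf, mul_one, pow_succ, pow_two σ, hσ, one_mul])
  omega

theorem dis12 (hυ : υ ^ 4 = 1) (hf : f ^ 3 = 1) (c : υ * f = f * υ) (hx : (υ * υ) x ≠ x) : f x = x := by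
  by_contra n
  have c' : Commute υ f := c
  have := orb_le (υ * f) (A := Finset.univ) (fun y i => Finset.mem_univ _) (Finset.mem_univ x)
    (N := 12) (a := 4) (b := 6) (by
      rw [c'.mul_pow, show 12 = 4 * 3 from rfl, pow_mul, hυ, pow_mul', hf]; simp)
    (fun d i => by have := Nat.le_of_dvd (by omega) i; interval_cases d <;> simp_all)
    (by rwa [c'.mul_pow, hυ, one_mul, pow_succ, hf, one_mul])
    (by rwa [c'.mul_pow, show 6 = 3 * 2 from rfl, pow_mul f, hf, one_pow, mul_one, show 3 * 2 = 4 + 2 from rfl, pow_add,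
      hυ, one_mul, pow_two])
  simp at this

theorem even_of_odd {n : ℕ} (hn : Odd n) (h : f ^ n = 1) : Perm.sign f = 1 := by
  have := congrArg Perm.sign h
  rw [map_pow, map_one] at this
  rcases Int.units_eq_one_or (Perm.sign f) with e | e
  · exact e
  · rw [e, hn.neg_one_pow] at this; exact absurd this (by decide)

theorem fpf (h : σ.support.card = 8) (x : Fin 8) : σ x ≠ x :=
  Perm.mem_support.1 ((Finset.eq_univ_of_card σ.support (by simpa using h)).symm ▸ Finset.mem_univ x)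

/-- a double transposition -/
def Dbl (δ : P8) : Prop := δ * δ = 1 ∧ δ.support.card = 4

/-- transposition -/
abbrev s (i j : Fin 8) : P8 := swap i j
/-- three-cycle -/
abbrev c (i j k : Fin 8) : P8 := swap i j * swap i k
/-- the standard involution -/
def σ₀ : P8 := s 0 1 * s 2 3 * (s 4 5 * s 6 7)
/-- a product of two three-cycles -/
def f₁ : P8 := c 0 2 4 * c 1 3 5

theorem supp_cases (h : σ * σ = 1) (h1 : σ ≠ 1) :
    σ.support.card = 2 ∨ σ.support.card = 4 ∨ σ.support.card = 6 ∨ σ.support.card = 8 := by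
  have e := (cyc_inv h).2
  have l : σ.support.card ≤ 8 := by simpa using σ.support.card_le_univ
  have p : σ.support.card ≠ 0 := by simpa using h1
  omega

theorem P1 (h : σ * σ = 1) (h1 : σ ≠ 1) : ∃ f g : P8, f ^ 3 = 1 ∧ g ^ 3 = 1 ∧
    σ * f = f * σ ∧ σ * g = g * σ ∧ Dbl (f * g) := by
  have key : ∀ τ f g : P8, τ * τ = 1 ∧ f ^ 3 = 1 ∧ g ^ 3 = 1 ∧ τ * f = f * τ ∧ τ * g = g * τ ∧
      f * g * (f * g) = 1 ∧ (f * g).support.card = 4 → σ.support.card = τ.support.card → ∃ f g : P8, f ^ 3 = 1 ∧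
      g ^ 3 = 1 ∧ σ * f = f * σ ∧ σ * g = g * σ ∧ Dbl (f * g) := fun τ f g ⟨a, b, d, i, j, k, l⟩ m => by
    obtain ⟨ρ, rfl⟩ := conj_inv h a m
    refine ⟨ρ * f * ρ⁻¹, ρ * g * ρ⁻¹, by rw [conj_pow, b]; simp, by rw [conj_pow, d]; simp,
      by rw [conj_mul, conj_mul, i], by rw [conj_mul, conj_mul, j], by rw [conj_mul, conj_mul, k]; simp,
      by rw [conj_mul, Perm.card_support_conj, l]⟩
  obtain e | e | e | e := supp_cases h h1
  · exact key (s 0 1) (c 4 5 6) (c 4 5 7) (by decide +kernel) (e.trans (by decide +kernel))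
  · exact key (s 0 1 * s 2 3) (c 4 5 6) (c 4 5 7) (by decide +kernel) (e.trans (by decide +kernel))
  · exact key (s 0 1 * s 2 3 * s 4 5) f₁ (s 0 1 * f₁⁻¹ * s 0 1) (by decide +kernel) (e.trans (by decide +kernel))
  · exact key σ₀ f₁ (s 0 1 * f₁⁻¹ * s 0 1) (by decide +kernel) (e.trans (by decide +kernel))

theorem P2 (h : σ * σ = 1) (h1 : σ ≠ 1) (hf : f ^ 3 = 1) (hg : g ^ 3 = 1) (c1 : σ * f = f * σ) (c2 : σ * g = g * σ)
    (e : f * g * (f * g) = σ) : σ.support.card = 8 := by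
  refine (supp_inv h h1 (by rw [← e, map_mul, Int.units_mul_self])).resolve_left fun h4 => ?_
  obtain ⟨x, hx⟩ : ∃ x, σ x ≠ x := by by_contra! i; exact h1 (Equiv.ext i)
  have k : ∀ {f : P8}, f ^ 3 = 1 → σ * f = f * σ → f x = x := fun a b =>
    dis3 h a b (A := σ.support) (fun y i => Perm.apply_mem_support.2 (supp_c b i)) (by omega) (Perm.mem_support.2 hx) hx
  refine hx ?_
  rw [← e]
  simp only [Perm.mul_apply, k hf c1, k hg c2]

theorem norm8 (h : σ * σ = 1) (h8 : σ.support.card = 8) : ∃ ρ : P8, ρ * σ * ρ⁻¹ = σ₀ :=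
  conj_inv (by decide +kernel) h (Eq.trans (by decide +kernel) h8.symm)

theorem fixc (c : σ * f = f * σ) (h : f x = x) : f (σ x) = σ x := by rw [← cap c, h]

theorem P3' (t2 : τ * τ = 1) (t8 : τ.support.card = 8) (k1 : Commute τ f₁) (k2 : Commute τ (s 0 1 * f₁ * s 0 1)) :
    τ = σ₀ := by
  have ii : ∀ x, τ (τ x) = x := fun x => congrArg (· x) t2
  have m : ∀ f : P8, Commute τ f → ∀ x, f x = x ∧ (∀ y, f y = y → y ≠ x → y = σ₀ x) → τ x = σ₀ x :=
    fun f a x ⟨b, e⟩ => e _ (fixc a b) (fpf t8 x)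
  have m6 : τ 6 = 7 := (m _ k1 6 (by decide +kernel)).trans (by decide +kernel)
  have m7 : τ 7 = 6 := by rw [← m6, ii]
  have m' : ∀ f : P8, Commute τ f → ∀ x, f x = x ∧ x ≠ 6 ∧ x ≠ 7 ∧ (∀ y, f y = y → y ≠ x → y ≠ 6 → y ≠ 7 → y = σ₀ x) →
      τ x = σ₀ x := fun f a x ⟨b, d6, d7, e⟩ => e _ (fixc a b) (fpf t8 x) (fun i => d7 (by rw [← ii x, i, m6]))
        fun i => d6 (by rw [← ii x, i, m7])
  have a := k1.inv_right.mul_right k2
  have b := k1.mul_right k2.inv_right
  have m1 := m' _ a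
  have m2 := m' _ b
  have m3 := m' _ (a.mul_right b)
  refine Equiv.ext fun x => ?_
  fin_cases x
  all_goals first
    | exact m1 _ (by decide +kernel)
    | exact m2 _ (by decide +kernel)
    | exact m3 _ (by decide +kernel)
    | exact m6.trans (by decide +kernel)
    | exact m7.trans (by decide +kernel)

theorem P3 (h : σ * σ = 1) (h8 : σ.support.card = 8) (hυ : υ * υ = 1) (h1 : υ ≠ 1)
    (hc : ∀ f : P8, f ^ 3 = 1 → υ * f = f * υ → σ * f = f * σ) : 4 < υ.support.card ∧ (υ * σ).support.card ≤ 2 := by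
  have key : ∀ υ' : P8, υ' * υ' = 1 → υ.support.card = υ'.support.card → ∃ τ : P8, τ * τ = 1 ∧ τ.support.card = 8 ∧
      (∀ f : P8, f ^ 3 = 1 ∧ υ' * f = f * υ' → Commute τ f) ∧ (υ * σ).support.card = (υ' * τ).support.card :=
    fun υ' a b => by
    obtain ⟨ρ, rfl⟩ := conj_inv a hυ b.symm
    refine ⟨ρ * σ * ρ⁻¹, by rw [conj_mul, h]; simp, by rw [Perm.card_support_conj, h8], fun f ⟨i, j⟩ => ?_,
      by rw [conj_mul, Perm.card_support_conj]⟩
    obtain ⟨f, rfl⟩ : ∃ f', f = ρ * f' * ρ⁻¹ := ⟨ρ⁻¹ * f * ρ, by group⟩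
    have := hc f (by simpa [conj_pow] using i) (by simpa [conj_mul] using j)
    rw [Commute, SemiconjBy, conj_mul, conj_mul, this]
  have no : ∀ τ : P8, τ * τ = 1 → τ.support.card = 8 → Commute τ (c 5 6 7) → False := fun τ a b k =>
    absurd (dis3 (x := 5) a (by decide +kernel) k (A := (c 5 6 7).support)
      (fun y j => supp_c (f := τ) k.symm (Perm.apply_mem_support.2 j)) (by decide +kernel) (by decide +kernel) (fpf b 5))
      (by decide +kernel)
  obtain e | e | e | e := supp_cases hυ h1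
  · obtain ⟨τ, a, b, k, -⟩ := key (s 0 1) (by decide +kernel) (e.trans (by decide +kernel))
    exact (no τ a b (k _ (by decide +kernel))).elim
  · obtain ⟨τ, a, b, k, -⟩ := key (s 0 1 * s 2 3) (by decide +kernel) (e.trans (by decide +kernel))
    exact (no τ a b (k _ (by decide +kernel))).elim
  · obtain ⟨τ, a, b, k, l⟩ := key (s 0 1 * s 2 3 * s 4 5) (by decide +kernel) (e.trans (by decide +kernel))
    rw [l, P3' a b (k _ (by decide +kernel)) (k _ (by decide +kernel))]
    exact ⟨by omega, by decide +kernel⟩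
  · obtain ⟨τ, a, b, k, l⟩ := key σ₀ (by decide +kernel) (e.trans (by decide +kernel))
    rw [l, P3' a b (k _ (by decide +kernel)) (k _ (by decide +kernel))]
    exact ⟨by omega, by decide +kernel⟩

theorem P4 (h8 : (υ * υ).support.card = 8) (hυ : υ ^ 4 = 1) (hf : f ^ 3 = 1) (c1 : υ * f = f * υ) : f = 1 :=
  Equiv.ext fun x => dis12 hυ hf c1 (fpf h8 x)

theorem odd_fix {n : ℕ} (hn : Odd n) (h : ω ^ n = 1) (h2 : ω (ω x) = x) : ω x = x := by
  obtain ⟨k, rfl⟩ := hn
  have := congrArg (· x) h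
  simp only [pow_succ', Perm.mul_apply, Perm.one_apply] at this
  rwa [pow_fix (show (ω ^ 2) x = x from h2)] at this

theorem P6 {n : ℕ} (hn : Odd n) (h : ω ^ n = 1)
    (h1 : ∀ ρ : P8, Perm.sign ρ = 1 ∧ ρ * σ₀ = σ₀ * ρ ∧ ρ ^ 4 = 1 → ω * (ρ * ρ) = ρ * ρ * ω) : ω = 1 := by
  have k : ∀ ρ : P8, Perm.sign ρ = 1 ∧ ρ * σ₀ = σ₀ * ρ ∧ ρ ^ 4 = 1 → ∀ x ∈ (ρ * ρ).support, ω x ∈ (ρ * ρ).support :=
    fun ρ a x i => supp_c (h1 ρ a).symm i
  have k1 := k (s 0 2 * s 1 3 * s 0 1 * s 4 5) (by decide +kernel)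
  have k2 := k (s 0 4 * s 1 5 * s 0 1 * s 6 7) (by decide +kernel)
  have k3 := k (s 2 4 * s 3 5 * s 2 3 * s 6 7) (by decide +kernel)
  have k4 := k (s 0 6 * s 1 7 * s 0 1 * s 2 3) (by decide +kernel)
  have k5 := k (s 2 6 * s 3 7 * s 2 3 * s 0 1) (by decide +kernel)
  have m : ∀ A B : Finset (Fin 8), (∀ x ∈ A, ω x ∈ A) → (∀ x ∈ B, ω x ∈ B) → ∀ x, x ∈ A ∧ x ∈ B ∧
      (∀ y ∈ A, y ∈ B → y ≠ x → ∀ z ∈ A, z ∈ B → z ≠ y → z = x) → ω x = x := fun A B a b x ⟨i, j, l⟩ =>
    by_contra fun n => n (odd_fix hn h (l _ (a x i) (b x j) n _ (a _ (a x i)) (b _ (b x j)) fun e => n (ω.injective e)))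
  refine Equiv.ext fun x => ?_
  fin_cases x
  exacts [m _ _ k1 k2 _ (by decide +kernel), m _ _ k1 k2 _ (by decide +kernel), m _ _ k1 k3 _ (by decide +kernel),
    m _ _ k1 k3 _ (by decide +kernel), m _ _ k2 k3 _ (by decide +kernel), m _ _ k2 k3 _ (by decide +kernel),
    m _ _ k4 k5 _ (by decide +kernel), m _ _ k4 k5 _ (by decide +kernel)]

/-- the alternating group of degree 8 -/
abbrev A8 := alternatingGroup (Fin 8)

theorem card_A8 : Nat.card A8 = 20160 := by
  have := two_mul_nat_card_alternatingGroup (α := Fin 8)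
  rw [Nat.card_perm, Nat.card_eq_fintype_card (α := Fin 8), Fintype.card_fin] at this
  have e : Nat.factorial 8 = 40320 := by decide
  unfold A8
  omega

theorem ntrans (Y : Subgroup A8) (h : Y.index = 8) (ht : ∀ j : Fin 8, ∃ y ∈ Y, (y : P8) 0 = j) : False := by
  have b := Y.card_mul_index
  rw [h, card_A8] at b
  have cY : Nat.card (Y.map A8.subtype) = 2520 := by rw [card_map_of_injective A8.subtype_injective]; omega
  generalize hH : Y.map A8.subtype = H at cY
  have ex : ∀ p, p.Prime → p ∣ 2520 → 8 < 2 * p → ∃ f ∈ H, f.IsCycle ∧ f.support.card = p := fun p i j k => by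
    haveI := Fact.mk i
    obtain ⟨⟨f, a⟩, e⟩ := exists_prime_orderOf_dvd_card' (G := H) p (cY ▸ j)
    rw [orderOf_mk] at e
    have := Perm.isCycle_of_prime_order' (σ := f) (e ▸ i) (by rw [e]; simpa using k)
    exact ⟨f, a, this, this.orderOf.symm.trans e⟩
  obtain ⟨f, fH, fc, f7⟩ := ex 7 (by decide) (by decide) (by decide)
  obtain ⟨g, gH, gc, g5⟩ := ex 5 (by decide) (by decide) (by decide)
  haveI : IsPretransitive H (Fin 8) := ⟨fun x y => by
    obtain ⟨a, i, rfl⟩ := ht x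
    obtain ⟨d, j, rfl⟩ := ht y
    exact ⟨⟨(d * a⁻¹ : A8), hH ▸ mem_map_of_mem _ (mul_mem j (inv_mem i))⟩, by simp [Subgroup.smul_def]⟩⟩
  obtain ⟨j, hj⟩ := Finset.card_eq_one.1 (show f.supportᶜ.card = 1 by rw [Finset.card_compl, f7]; rfl)
  have sj : ∀ x, f x = x ↔ x = j := fun x => by rw [← Finset.mem_singleton (a := j), ← hj]; simp
  have pr : IsPreprimitive H (Fin 8) := IsPreprimitive.of_isTrivialBlock_base j fun {B} i hB => by
    refine or_iff_not_imp_left.2 fun n => Set.eq_univ_of_forall fun y => ?_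
    obtain ⟨x, xB, xj⟩ := (Set.not_subsingleton_iff.1 n).exists_ne j
    by_cases e : y = j
    · exact e ▸ i
    obtain ⟨k, rfl⟩ := fc.exists_pow_eq ((sj x).not.2 xj) ((sj y).not.2 e)
    have := hB.smul_eq_of_mem (g := ⟨f ^ k, pow_mem fH k⟩) i (by
      rwa [Subgroup.smul_def, Perm.smul_def, Perm.pow_apply_eq_self_of_apply_eq_self ((sj j).2 rfl)])
    exact this ▸ Set.smul_mem_smul_set (a := (⟨f ^ k, pow_mem fH k⟩ : H)) xB
  have := card_le_of_le (Perm.jordan_cycle pr gc (g5 ▸ by decide) gH (by rw [g5]; simp))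
  rw [cY, card_A8] at this
  omega

theorem fix_pt (Y : Subgroup A8) (h : Y.index = 8) : ∃ j, ∀ y ∈ Y, (y : P8) j = j := by
  classical
  obtain ⟨O, hO⟩ : ∃ O : Finset (Fin 8), O = (orbit Y (0 : Fin 8)).toFinset := ⟨_, rfl⟩
  have i : ∀ y ∈ Y, ∀ x, (y : P8) x ∈ O ↔ x ∈ O := fun y a x => by
    rw [hO, Set.mem_toFinset, Set.mem_toFinset]
    exact ⟨fun b => inv_smul_smul (⟨y, a⟩ : Y) x ▸ mapsTo_smul_orbit (⟨y, a⟩⁻¹ : Y) _ b,
      fun b => mapsTo_smul_orbit (⟨y, a⟩ : Y) _ b⟩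
  have o0 : 0 ∈ O := by rw [hO, Set.mem_toFinset]; exact mem_orbit_self _
  have l : O.card ≤ 8 := by simpa using O.card_le_univ
  have p := Finset.card_pos.2 ⟨0, o0⟩
  by_cases e : O.card = 8
  · refine (ntrans Y h fun j => ?_).elim
    have : j ∈ O := (Finset.eq_univ_of_card O (by simpa using e)).symm ▸ Finset.mem_univ j
    rw [hO, Set.mem_toFinset] at this
    obtain ⟨y, hy⟩ := this
    exact ⟨y, y.2, hy⟩
  by_cases e' : O.card = 7
  · obtain ⟨j, hj⟩ := Finset.card_eq_one.1 (show Oᶜ.card = 1 by rw [Finset.card_compl, e']; rfl)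
    refine ⟨j, fun y a => Finset.mem_singleton.1 ?_⟩
    rw [← hj, Finset.mem_compl, i y a, ← Finset.mem_compl, hj]; exact Finset.mem_singleton_self j
  have := alternatingGroup.isMultiplyPretransitive (Fin 8)
  have := isMultiplyPretransitive_of_le (G := A8) (α := Fin 8) (m := O.card) (n := Nat.card (Fin 8) - 2)
    (by simp; omega) (by simp)
  have : IsPretransitive A8 (Set.powersetCard (Fin 8) O.card) :=
    ⟨(Set.powersetCard.isPretransitive_of_isMultiplyPretransitive A8 this).1⟩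
  obtain ⟨X, hX⟩ : ∃ X : Set.powersetCard (Fin 8) O.card, X.1 = O := ⟨⟨O, rfl⟩, rfl⟩
  have d : (stabilizer A8 X).index ∣ 8 :=
    (index_dvd_of_le (H := Y) fun y a => by
      rw [mem_stabilizer_iff, ← Subtype.coe_inj, Subgroup.smul_def, Set.powersetCard.coe_smul, hX]
      ext x; rw [← Finset.inv_smul_mem_iff]; exact i _ (inv_mem a) x).trans h.dvd
  rw [index_stabilizer_of_transitive, Set.powersetCard.card, Nat.card_fin] at d
  obtain ⟨j, hj⟩ := Finset.card_eq_one.1 (show O.card = 1 by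
    generalize O.card = k at *
    interval_cases k <;> simp_all (config := {decide := true}))
  exact ⟨j, fun y a => Finset.mem_singleton.1 (by rw [← hj, i y a, hj]; exact Finset.mem_singleton_self j)⟩

theorem stab_fix {j k : Fin 8} (h : ∀ y : A8, (y : P8) j = j → (y : P8) k = k) : k = j := by
  by_contra n
  obtain ⟨a, ha⟩ := Cov.pick [j, k] (by simp)
  obtain ⟨b, hb⟩ := Cov.pick [j, k, a] (by simp)
  simp only [List.mem_cons, List.not_mem_nil, or_false, not_or] at ha hb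
  have := h ⟨c k a b, by simp [Perm.mem_alternatingGroup, Ne.symm ha.2, Ne.symm hb.2.1]⟩
    (by simp [swap_apply_of_ne_of_ne, Ne.symm n, Ne.symm ha.1, Ne.symm hb.1])
  simp only [Perm.mul_apply, swap_apply_left, swap_apply_of_ne_of_ne hb.2.1 hb.2.2] at this
  exact hb.2.1 this

theorem cent_triv (h : ∀ y : P8, Perm.sign y = 1 → σ * y = y * σ) : σ = 1 :=
  Equiv.ext fun x => stab_fix fun y i => fixc (h y y.2) i

theorem aut {H : Type*} [Group H] (ψ ψ' : H →* A8) (s : Function.Surjective ψ) (s' : Function.Surjective ψ')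
    (k : ψ.ker = ψ'.ker) : ∃ σ : P8, ∀ h, (ψ' h : P8) = σ * ψ h * σ⁻¹ := by
  have := alternatingGroup.isPretransitive_of_three_le_card (Fin 8) (by simp)
  have ix : ∀ i : Fin 8, (stabilizer A8 i).index = 8 := fun i => by rw [index_stabilizer_of_transitive, Nat.card_fin]
  have iy : ∀ i : Fin 8, (((stabilizer A8 i).comap ψ).map ψ').index = 8 := fun i => by
    rw [index_map_eq _ s' (k ▸ ker_le_comap ψ _), index_comap_of_surjective _ s, ix]
  choose f hf using fun i => fix_pt _ (iy i)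
  have e : ∀ i h, (ψ' h : P8) (f i) = f i ↔ (ψ h : P8) i = i := fun i h => by
    have : ((stabilizer A8 i).comap ψ).map ψ' = stabilizer A8 (f i) :=
      eq_of_le_of_card_ge (hf i) (by
        have a := card_mul_index (stabilizer A8 (f i))
        have b := card_mul_index (((stabilizer A8 i).comap ψ).map ψ')
        rw [ix] at a; rw [iy] at b; omega)
    refine ⟨fun a => ?_, fun a => hf i _ (mem_map_of_mem _ a)⟩
    have b : h ∈ (((stabilizer A8 i).comap ψ).map ψ').comap ψ' := this ▸ a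
    rwa [comap_map_eq_self (k ▸ ker_le_comap ψ _)] at b
  have inj : Function.Injective f := fun i j a => stab_fix fun y b => by
    obtain ⟨h, rfl⟩ := s y
    rwa [← e, a, e]
  refine ⟨Equiv.ofBijective f (Finite.injective_iff_bijective.1 inj), fun h => eq_mul_inv_of_mul_eq (Equiv.ext fun i =>
    stab_fix fun y b => ?_)⟩
  obtain ⟨g, rfl⟩ := s' y
  simp only [Perm.mul_apply, Equiv.ofBijective_apply] at b ⊢
  rw [e] at b
  have := (e i (h⁻¹ * g * h)).2 (by simp [b])
  simpa [Perm.inv_eq_iff_eq, Equiv.symm_apply_eq] using this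

end Cfsg.Agent.D8
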