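import Cfsg.Agent.MC8.RP
import Cfsg.Agent.BG.Base2
import Cfsg.Agent.Inv.Basic
/-! Standard subgroups of type `2.A8`: local analysis. -/
set_option autoImplicit false
set_option linter.unusedVariables false

namespace Cfsg.Agent.D8
open Subgroup Equiv Cfsg.Agent.BG Cfsg.Agent.Inv

variable {G : Type*} [Group G]

/-- the setting -/
structure St (z : G) (L : Subgroup G) (π : G → P8) : Prop where
  oz : orderOf z = 2
  zL : z ∈ L
  LC : L ≤ C1[z]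
  nL : C1[z] ≤ N[L]
  mul : ∀ a ∈ C1[z], ∀ b ∈ C1[z], π (a * b) = π a * π b
  ker : ∀ a ∈ C1[z], π a = 1 ↔ a ∈ C[L]
  kerL : ∀ a ∈ L, π a = 1 → a = 1 ∨ a = z
  ev : ∀ a ∈ L, Perm.sign (π a) = 1
  sur : ∀ σ, Perm.sign σ = 1 → ∃ a ∈ L, π a = σ
  dbl : ∀ a ∈ L, Dbl (π a) → a * a = z
  ti : ∀ u ∈ C[L], orderOf u = 2 → ∀ g, g * u * g⁻¹ ∈ C[L] → g ∈ C1[z]

variable {z t a b u x : G} {L M : Subgroup G} {π φ : G → P8} {n : ℕ}

namespace St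
variable (h : St z L π)
include h

theorem KC : C[L] ≤ C1[z] := fun a i => mem_C1'.2 (mem_C.1 i z h.zL)
theorem zK : z ∈ C[L] := mem_C.2 fun a i => mem_C1.1 (h.LC i)
theorem one : π 1 = 1 := (h.ker 1 (one_mem _)).2 (one_mem _)
theorem pz : π z = 1 := (h.ker z (mem_C1_self z)).2 h.zK
theorem pow (ha : a ∈ C1[z]) (n : ℕ) : π (a ^ n) = π a ^ n := by
  induction n with
  | zero => simp [h.one]
  | succ n ih => rw [pow_succ, h.mul _ (pow_mem ha n) _ ha, ih, pow_succ]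
theorem inv (ha : a ∈ C1[z]) : π a⁻¹ = (π a)⁻¹ :=
  eq_inv_of_mul_eq_one_left (by rw [← h.mul _ (inv_mem ha) _ ha, inv_mul_cancel, h.one])
theorem cnj (ha : a ∈ C1[z]) (hb : b ∈ C1[z]) : π (a * b * a⁻¹) = π a * π b * (π a)⁻¹ := by
  rw [h.mul _ (mul_mem ha hb) _ (inv_mem ha), h.mul _ ha _ hb, h.inv ha]
theorem cm (ha : a ∈ C1[z]) (hb : b ∈ C1[z]) (e : a * b = b * a) : π a * π b = π b * π a := by
  rw [← h.mul _ ha _ hb, e, h.mul _ hb _ ha]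
theorem p1 (ha : a ∈ C1[z]) (e : a ^ n = 1) : π a ^ n = 1 := by rw [← h.pow ha, e, h.one]
theorem sq (ha : a ∈ C1[z]) (e : a * a = 1) : π a * π a = 1 := by rw [← h.mul _ ha _ ha, e, h.one]
theorem eqK (ha : a ∈ C1[z]) (hb : b ∈ C1[z]) (e : π a = π b) : a⁻¹ * b ∈ C[L] :=
  (h.ker _ (mul_mem (inv_mem ha) hb)).1 (by rw [h.mul _ (inv_mem ha) _ hb, h.inv ha, e, inv_mul_cancel])
theorem eqL (ha : a ∈ L) (hb : b ∈ L) (e : π a = π b) : b = a ∨ b = a * z :=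
  (h.kerL _ (mul_mem (inv_mem ha) hb) ((h.ker _ (h.LC (mul_mem (inv_mem ha) hb))).2 (h.eqK (h.LC ha) (h.LC hb) e))).imp
    (fun i => (inv_mul_eq_one.1 i).symm) fun i => by rw [← i, mul_inv_cancel_left]
theorem powL (ha : a ∈ L) (e : π a ^ n = 1) : a ^ (n * 2) = 1 := by
  rcases h.kerL _ (pow_mem ha n) (by rw [h.pow (h.LC ha), e]) with i | i <;> rw [pow_mul, i, pow_two]
  exacts [mul_one 1, sq_of_ord2 h.oz]

theorem lift {f : P8} (hn : Odd n) (e : f ^ n = 1) : ∃ b ∈ L, π b = f ∧ b ^ n = 1 := by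
  obtain ⟨a, ha, rfl⟩ := h.sur f (even_of_odd hn e)
  obtain ⟨k, hk⟩ := hn.add_one.two_dvd
  exact ⟨a ^ (n + 1), pow_mem ha _, by rw [h.pow (h.LC ha), pow_succ, e, one_mul],
    by rw [← pow_mul, mul_comm, hk, ← mul_assoc, pow_mul, h.powL ha e, one_pow]⟩

theorem comm (hn : Odd n) (hx : x ∈ C1[z]) (hb : b ∈ L) (e : b ^ n = 1) (c : π x * π b = π b * π x) : x * b = b * x := by
  rcases h.eqL hb (conj_mem (h.nL hx) hb) (by rw [h.cnj hx (h.LC hb), c, mul_inv_cancel_right]) with i | i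
  · exact mul_inv_eq_iff_eq_mul.1 i
  · have := congrArg (· ^ n) i
    obtain ⟨k, rfl⟩ := hn
    simp only [conj_pow, (show Commute b z from mem_C1.1 (h.LC hb)).mul_pow, e] at this
    rw [pow_succ, pow_mul, pow_two, sq_of_ord2 h.oz] at this
    exact absurd (by simpa using this.symm) (ne_one_of_ord2 h.oz)

theorem tw (ρ : P8) : St z L fun a => ρ * π a * ρ⁻¹ :=
  { h with
    mul := fun a i b j => by rw [h.mul a i b j, conj_mul]
    ker := fun a i => by rw [← h.ker a i]; simp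
    kerL := fun a i j => h.kerL a i (by simpa using j)
    ev := fun a i => by simp [h.ev a i, Int.units_mul_self]
    sur := fun σ i => by
      obtain ⟨a, j, e⟩ := h.sur (ρ⁻¹ * σ * ρ) (by simp [i, Int.units_mul_self])
      exact ⟨a, j, by rw [e]; group⟩
    dbl := fun a i ⟨j, k⟩ => h.dbl a i ⟨by simpa [conj_mul] using j, by rwa [Perm.card_support_conj] at k⟩ }

theorem conj (g : G) : St (g * z * g⁻¹) (cj g L) fun a => π (g⁻¹ * a * g) := by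
  have c : ∀ {a}, a ∈ C1[g * z * g⁻¹] ↔ g⁻¹ * a * g ∈ C1[z] := by rw [← cj_C1]; exact mem_cj
  have k : ∀ {a}, a ∈ C[cj g L] ↔ g⁻¹ * a * g ∈ C[L] := by rw [← cj_C]; exact mem_cj
  have m : ∀ a b, g⁻¹ * (a * b) * g = g⁻¹ * a * g * (g⁻¹ * b * g) := fun a b => by group
  refine ⟨by rw [orderOf_conj', h.oz], mem_cj_conj.2 h.zL, fun a i => c.2 (h.LC (mem_cj.1 i)), by
    rw [← cj_C1, ← cj_N]; exact cj_mono g h.nL, fun a i b j => by rw [m, h.mul _ (c.1 i) _ (c.1 j)],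
    fun a i => (h.ker _ (c.1 i)).trans k.symm, fun a i j => (h.kerL _ (mem_cj.1 i) j).imp (fun e => by
      simpa [mul_assoc] using congrArg (g * · * g⁻¹) e) fun e => by rw [← e]; group, fun a i => h.ev _ (mem_cj.1 i),
    fun σ i => ?_, fun a i j => by rw [← h.dbl _ (mem_cj.1 i) j]; group, fun u i j y l => c.2 (h.ti _ (k.1 i)
      (by rw [orderOf_conj'', j]) _ (by convert k.1 l using 1; group))⟩
  obtain ⟨a, j, e⟩ := h.sur σ i
  exact ⟨_, mem_cj_conj.2 j, by rw [← e]; congr 1; group⟩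

end St

/-- a commuting pair -/
structure Pr (z : G) (L : Subgroup G) (π : G → P8) (t : G) (M : Subgroup G) (φ : G → P8) : Prop where
  l : St z L π
  r : St t M φ
  tz : t ∈ C1[z]
  n1 : π t ≠ 1
  n2 : φ z ≠ 1

theorem St.pr (h : St z L π) {g : G} (hc : g * z * g⁻¹ ∈ C1[z]) (hn : g * z * g⁻¹ ≠ z) :
    Pr z L π (g * z * g⁻¹) (cj g L) fun a => π (g⁻¹ * a * g) := by
  have k : g ∉ C1[z] := fun i => hn (by rw [mem_C1.1 i, mul_inv_cancel_right])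
  refine ⟨h, h.conj g, hc, fun e => k (h.ti z h.zK h.oz g ((h.ker _ hc).1 e)), fun e => k (inv_mem_iff.1
    (h.ti z h.zK h.oz g⁻¹ ?_))⟩
  rw [inv_inv]
  exact (h.ker _ (mem_cj.1 (cj_C1 g z ▸ C1_symm hc))).1 e

namespace Pr
variable (h : Pr z L π t M φ)
include h

theorem symm : Pr t M φ z L π := ⟨h.r, h.l, C1_symm h.tz, h.n2, h.n1⟩

theorem tw (ρ : P8) : Pr z L (fun a => ρ * π a * ρ⁻¹) t M φ := ⟨h.l.tw ρ, h.r, h.tz, by simpa using h.n1, h.n2⟩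

theorem tt : π t * π t = 1 := h.l.sq h.tz (sq_of_ord2 h.r.oz)

theorem s8 : (π t).support.card = 8 := by
  obtain ⟨f, g, a, b, c1, c2, d⟩ := P1 h.symm.tt h.n2
  obtain ⟨x, xL, rfl, x5⟩ := h.r.lift (by decide) a
  obtain ⟨y, yL, rfl, y5⟩ := h.r.lift (by decide) b
  have xt := mem_C1'.2 (h.r.comm (by decide) h.symm.tz xL x5 c1)
  have yt := mem_C1'.2 (h.r.comm (by decide) h.symm.tz yL y5 c2)
  have e := h.r.dbl _ (mul_mem xL yL) (by rwa [h.r.mul _ (h.r.LC xL) _ (h.r.LC yL)])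
  refine P2 h.tt h.n1 (h.l.p1 xt x5) (h.l.p1 yt y5) (h.l.cm h.tz xt (mem_C1'.1 (h.r.LC xL)))
    (h.l.cm h.tz yt (mem_C1'.1 (h.r.LC yL))) ?_
  rw [← h.l.mul _ xt _ yt, ← h.l.mul _ (mul_mem xt yt) _ (mul_mem xt yt), e]

theorem nKK (hu : orderOf u = 2) (h1 : u ∈ C[L]) (h2 : u ∈ C[M]) : False :=
  h.n2 ((h.r.ker z h.symm.tz).2 (mem_C.2 fun m i => mem_C1.1 (h.l.ti u h1 hu m (by
    rwa [mem_C.1 h2 m i, mul_inv_cancel_right]))))

theorem B0 (hu : orderOf u = 2) (h1 : u ∈ C1[z]) (h2 : u ∈ C[M]) :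
    4 < (π u).support.card ∧ (π u * π t).support.card ≤ 2 :=
  P3 h.tt h.s8 (h.l.sq h1 (sq_of_ord2 hu)) (fun e => h.nKK hu ((h.l.ker u h1).1 e) h2)
    fun f a c => by
      obtain ⟨x, xL, rfl, x5⟩ := h.l.lift (by decide) a
      exact h.l.cm h.tz (h.l.LC xL) (mem_C1'.1 (h.r.ti u h2 hu x (by
        rwa [← h.l.comm (by decide) h1 xL x5 c, mul_inv_cancel_right])))

theorem B (hu : orderOf u = 2) (h1 : u ∈ C1[z]) (h2 : u ∈ C[M]) : u = t := by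
  by_contra n
  have a := (h.B0 hu h1 h2).2
  have b := (h.B0 (u := u * t) (ord2_iff.2 ⟨by
    rw [mul_assoc, ← mul_assoc t, mem_C.1 h2 t h.r.zL, mul_assoc, sq_of_ord2 h.r.oz, mul_one, sq_of_ord2 hu],
    fun i => n (by rw [eq_inv_of_mul_eq_one_left i, inv_of_ord2 h.r.oz])⟩) (mul_mem h1 h.tz) (mul_mem h2 h.r.zK)).1
  rw [h.l.mul _ h1 _ h.tz] at b
  omega

theorem C0 (h1 : u ∈ C1[t]) (h2 : u ∈ C[L]) : u * u ≠ z := fun e => by
  obtain ⟨f, g, a, b, c1, c2, d⟩ := P1 h.tt h.n1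
  obtain ⟨x, xL, rfl, x3⟩ := h.l.lift (by decide) a
  obtain ⟨y, yL, rfl, y3⟩ := h.l.lift (by decide) b
  have xt := mem_C1'.2 (h.l.comm (by decide) h.tz xL x3 c1)
  have yt := mem_C1'.2 (h.l.comm (by decide) h.tz yL y3 c2)
  have e' := h.l.dbl _ (mul_mem xL yL) (by rwa [h.l.mul _ (h.l.LC xL) _ (h.l.LC yL)])
  have q : φ u * φ u = φ z := by rw [← h.r.mul _ h1 _ h1, e]
  have k : ∀ x ∈ L, x ∈ C1[t] → x ^ 3 = 1 → φ x = 1 := fun x xL xt x3 => P4 (υ := φ u) (q ▸ h.symm.s8) (by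
    rw [show 4 = 2 * 2 from rfl, pow_mul, pow_two, pow_two, q, h.symm.tt]) (h.r.p1 xt x3)
    (h.r.cm h1 xt (mem_C.1 h2 x xL).symm)
  refine h.n2 ?_
  rw [← e', h.r.mul _ (mul_mem xt yt) _ (mul_mem xt yt), h.r.mul _ xt _ yt, k x xL xt x3, k y yL yt y3]; simp

theorem two0 (h1 : u ∈ C1[t]) (h2 : u ∈ C[L]) (e : u ^ 2 ^ n = 1) : u = 1 ∨ u = z := by
  induction n generalizing u with
  | zero => exact .inl (by simpa using e)
  | succ n ih =>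
    rcases ih (mul_mem h1 h1) (mul_mem h2 h2) (by rwa [← pow_two, ← pow_mul, ← pow_succ']) with i | i
    · exact or_iff_not_imp_left.2 fun j => h.symm.B (ord2_iff.2 ⟨i, j⟩) h1 h2
    · exact absurd i (h.C0 h1 h2)

theorem mem0 (hx : x ∈ C1[z]) (ev : Perm.sign (π x) = 1) (e : x ^ 2 ^ n = 1)
    (hc : ∀ k ∈ C[L], k * x = x * k → k ∈ C1[t]) : x ∈ L := by
  obtain ⟨a, aL, ea⟩ := h.l.sur _ ev
  have k := h.l.eqK (h.l.LC aL) hx ea
  have c : Commute a x := by simpa using (Commute.refl a).mul_right (show Commute a (a⁻¹ * x) from mem_C.1 k a aL)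
  rcases h.two0 (n := n + 1) (hc _ k (c.inv_left.mul_left (Commute.refl x))) k (by
    rw [c.inv_left.mul_pow, inv_pow, pow_succ, h.l.powL aL (ea ▸ h.l.p1 hx e), pow_mul, e]; simp) with i | i
  · rwa [← inv_mul_eq_one.1 i]
  · rw [inv_mul_eq_iff_eq_mul.1 i]; exact mul_mem aL h.l.zL

theorem ev : Perm.sign (π t) = 1 := by
  obtain ⟨ρ, h0⟩ := norm8 h.tt h.s8
  simpa [mul_right_comm, Int.units_mul_self, show Perm.sign σ₀ = 1 by decide +kernel] using congrArg Perm.sign h0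

theorem tL : t ∈ L := h.mem0 (n := 1) h.tz h.ev (by rw [pow_one, pow_two, sq_of_ord2 h.r.oz]) fun k _ => mem_C1.2

theorem two (h2 : u ∈ C[L]) (e : u ^ 2 ^ n = 1) : u = 1 ∨ u = z := h.two0 (mem_C1'.2 (mem_C.1 h2 t h.tL)) h2 e

theorem mem (hx : x ∈ C1[z]) (ev : Perm.sign (π x) = 1) (e : x ^ 2 ^ n = 1) : x ∈ L :=
  h.mem0 hx ev e fun k i _ => mem_C1'.2 (mem_C.1 i t h.tL)

theorem cls0 (h0 : π t = σ₀) (ha : a ∈ L) (h2 : π a * π a = 1) (h8 : (π a).support.card = 8) :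
    ∃ y ∈ L, a = y * t * y⁻¹ ∨ a = y * (t * z) * y⁻¹ := by
  obtain ⟨ρ, e⟩ := conj_inv h2 h.tt (h8.trans h.s8.symm)
  obtain ⟨ρ, i, e⟩ : ∃ ρ : P8, Perm.sign ρ = 1 ∧ ρ * π t * ρ⁻¹ = π a := by
    rcases Int.units_eq_one_or (Perm.sign ρ) with i | i
    · exact ⟨ρ, i, e⟩
    · refine ⟨ρ * s 0 1, by simp [i], ?_⟩
      rw [← e, h0, mul_assoc ρ, show s 0 1 * σ₀ = σ₀ * s 0 1 by decide +kernel]; group
  obtain ⟨y, yL, rfl⟩ := h.l.sur ρ i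
  refine ⟨y, yL, (h.l.eqL (mul_mem (mul_mem yL h.tL) (inv_mem yL)) ha (by rw [h.l.cnj (h.l.LC yL) h.tz, e])).imp id
    fun j => ?_⟩
  rw [j, mul_assoc, mem_C1.1 (inv_mem (h.l.LC yL))]; group

theorem Q0 (h0 : π t = σ₀) (ha : a ∈ L) (e : π a = s 0 2 * s 1 3) :
    a * a = z ∧ orderOf (a * t) = 2 ∧ a * t * a⁻¹ = t * z := by
  have p : π (a * t) = s 0 2 * s 1 3 * σ₀ := by rw [h.l.mul _ (h.l.LC ha) _ h.tz, e, h0]
  have a2 := h.l.dbl a ha (by rw [e]; exact ⟨by decide +kernel, by decide +kernel⟩)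
  have q : a * t * (a * t) = 1 := by
    obtain ⟨y, -, i | i⟩ := h.cls0 h0 (mul_mem ha h.tL) (by rw [p]; decide +kernel) (by rw [p]; decide +kernel) <;>
      rw [i, conj_mul]
    · simp [sq_of_ord2 h.r.oz]
    · rw [mul_assoc t, ← mul_assoc z, ← mem_C1.1 h.tz, mul_assoc t, sq_of_ord2 h.l.oz]; simp [sq_of_ord2 h.r.oz]
  refine ⟨a2, ord2_iff.2 ⟨q, fun i => by rw [i, h.l.one] at p; revert p; decide +kernel⟩, ?_⟩
  rw [← inv_of_ord2 h.l.oz, ← a2, eq_inv_of_mul_eq_one_left q, mul_inv_rev, inv_of_ord2 h.r.oz]; group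

theorem Q : ∃ a ∈ L, a * a = z ∧ orderOf (a * t) = 2 ∧ a * t * a⁻¹ = t * z := by
  obtain ⟨ρ, h0⟩ := norm8 h.tt h.s8
  obtain ⟨a, ha, e⟩ := (h.tw ρ).l.sur (s 0 2 * s 1 3) (by decide +kernel)
  exact ⟨a, ha, (h.tw ρ).Q0 h0 ha e⟩

theorem cls (ha : a ∈ L) (h2 : orderOf a = 2) : a = z ∨ ∃ y : G, a = y * t * y⁻¹ := by
  obtain ⟨ρ, h0⟩ := norm8 h.tt h.s8
  have q := h.l.sq (h.l.LC ha) (sq_of_ord2 h2)
  by_cases e : π a = 1
  · exact .inl ((h.l.kerL a ha e).resolve_left (ne_one_of_ord2 h2))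
  rcases supp_inv q e (h.l.ev a ha) with i | i
  · exact absurd ((h.l.dbl a ha ⟨q, i⟩).symm.trans (sq_of_ord2 h2)) (ne_one_of_ord2 h.l.oz)
  obtain ⟨b, -, -, -, hb⟩ := h.Q
  obtain ⟨y, -, j | j⟩ := (h.tw ρ).cls0 h0 ha (by simp [conj_mul, q]) (by rwa [Perm.card_support_conj])
  exacts [.inr ⟨y, j⟩, .inr ⟨y * b, by rw [j, ← hb]; group⟩]

theorem odd0 (h0 : π t = σ₀) (hev : ∀ x ∈ C1[t], Perm.sign (φ x) = 1) (hn : Odd n) (e : x ^ n = 1) (hx : x ∈ C[M]) :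
    x ∈ C[L] := by
  have xz := mem_C1'.2 (mem_C.1 hx z h.symm.tL)
  have key : ∀ r ∈ L, r * t * r⁻¹ = t → π r ^ 4 = 1 → π x * π r = π r * π x := fun r rL i j =>
    have k := mem_C1.2 (mul_inv_eq_iff_eq_mul.1 i)
    h.l.cm xz (h.l.LC rL) (mem_C.1 hx r (h.symm.mem (n := 3) k (hev r k) (h.l.powL rL j))).symm
  have alt : ∀ r ∈ L, π r * σ₀ = σ₀ * π r → r * t * r⁻¹ = t ∨ r * t * r⁻¹ = t * z := fun r rL i =>
    h.l.eqL h.tL (mul_mem (mul_mem rL h.tL) (inv_mem rL)) (by rw [h.l.cnj (h.l.LC rL) h.tz, h0, i, mul_inv_cancel_right])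
  have two : ∀ a ∈ L, ∀ r, a * t * a⁻¹ = t * z → r * t * r⁻¹ = t * z → a * r * t * (a * r)⁻¹ = t := fun a aL r i j => by
    rw [show a * r * t * (a * r)⁻¹ = a * (r * t * r⁻¹) * a⁻¹ by group, j, ← conj_mul, i, mem_C1.1 (h.l.LC aL),
      mul_inv_cancel_right, mul_assoc, sq_of_ord2 h.l.oz, mul_one]
  refine (h.l.ker x xz).1 (P6 hn (h.l.p1 xz e) fun ρ ⟨i, j, k⟩ => ?_)
  obtain ⟨r, rL, rfl⟩ := h.l.sur ρ i
  have p := h.l.mul _ (h.l.LC rL) _ (h.l.LC rL)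
  rw [← p]
  refine key _ (mul_mem rL rL) ((alt r rL j).elim (fun l => ?_) fun l => two r rL r l l) (by
    rw [p, ← pow_two, ← pow_mul, mul_comm, pow_mul, k, one_pow])
  rw [show r * r * t * (r * r)⁻¹ = r * (r * t * r⁻¹) * r⁻¹ by group, l, l]

theorem odd (hev : ∀ x ∈ C1[t], Perm.sign (φ x) = 1) (hn : Odd n) (e : x ^ n = 1) (hx : x ∈ C[M]) : x ∈ C[L] := by
  obtain ⟨ρ, h0⟩ := norm8 h.tt h.s8
  exact (h.tw ρ).odd0 h0 hev hn e hx

end Pr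

end Cfsg.Agent.D8
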