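import Cfsg.Agent.H8.LyD

/-! # The subgroups `2.A_n` of the model of `2.A11` -/

set_option autoImplicit false

namespace Cfsg.Agent.MC8
open Subgroup Equiv Cfsg.Agent.Spor Cfsg.Agent.H8Ly

/-- the preimage of `A_n` -/
def SS (n : ℕ) : Subgroup K where
  carrier := {z | ∀ v : Fin 11, n ≤ v.1 → π z v = v}
  one_mem' := fun v _ => by simp
  mul_mem' := fun {a b} ha hb v hv => by rw [map_mul, Perm.mul_apply, hb v hv, ha v hv]
  inv_mem' := fun {a} ha v hv => by rw [map_inv, Perm.inv_eq_iff_eq, ha v hv]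

theorem mem_SS {n : ℕ} {z : K} : z ∈ SS n ↔ ∀ v : Fin 11, n ≤ v.1 → π z v = v := Iff.rfl

theorem kt_mem (n : ℕ) : kt ∈ SS n := fun v _ => by rw [π_t]; rfl

theorem SS_mono {n m : ℕ} (h : n ≤ m) : SS n ≤ SS m := fun _ hz v hv => hz v (h.trans hv)

end Cfsg.Agent.MC8
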